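import Cfsg.Agent.DCoset.Th.HNormal
import Cfsg.Agent.DCoset.Th.Aut.Data

/-!
# A Sylow subgroup of order 49 of `<a, b, c, d, e, s, t>`

`P = <x, y>`; its elements are coded `7 i + j` for `x ^ i y ^ j`, and a pair of codes describes an
endomorphism by the images of `x` and `y`.  The elements fall into two classes according to the
number of their fixed points among the 819.
-/

set_option autoImplicit false
set_option maxRecDepth 100000

namespace Cfsg.Agent.DCoset.Th.Aut

open Cfsg.Agent.DCoset Cfsg.Agent.DCoset.Th Cfsg.Agent.CosetCert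

/-- Entry `i` of a sequence packed by sixteen bits. -/
noncomputable def getP (n i : Nat) : Nat := Nat.mod (Nat.shiftRight n (Nat.mul 16 i)) 65536

/-- The entry of a list. -/
noncomputable def getL (l : List Nat) : Nat → Nat :=
  List.rec (fun _ => 0) (fun a _ ih i => Nat.rec a (fun j _ => ih j) i) l

theorem getL_eq : ∀ (l : List Nat) (i : Nat), getL l i = l.getD i 0
  | [], _ => rfl
  | _ :: _, 0 => rfl
  | _ :: l, i + 1 => getL_eq l i

theorem img_ql : ∀ (l : List Nat), okL l = true → ∀ p : Fin 819,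
    (img (ql l) p).val = goL tab.act l p.val
  | [], _, p => by simp [ql, img_one, goL]
  | g :: l, hl, p => by
    simp only [okL, List.all_cons, Bool.and_eq_true] at hl
    rw [ql_cons, img_mul, img_ql l hl.2, goL_eq, goL_eq, List.foldl_cons]
    congr 1
    exact (acts.act_eq g (Nat.ble_eq.mp hl.1) p).symm

theorem img_inj (q : HGroup) : Function.Injective (img q) := (rho q)⁻¹.injective

theorem img_inv_img (q : HGroup) (p : Fin 819) : img q⁻¹ (img q p) = p := by
  rw [← img_mul, mul_inv_cancel, img_one]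

theorem img_img_inv (q : HGroup) (p : Fin 819) : img q (img q⁻¹ p) = p := by
  rw [← img_mul, inv_mul_cancel, img_one]

/-- The number of fixed points. -/
noncomputable def fixCnt (q : HGroup) : Nat := Nat.card {p : Fin 819 // img q p = p}

theorem fixCnt_conj (h q : HGroup) : fixCnt (h * q * h⁻¹) = fixCnt q := by
  refine Nat.card_congr (Equiv.subtypeEquiv ⟨img h, img h⁻¹, img_inv_img h, img_img_inv h⟩ ?_)
  intro p
  show img (h * q * h⁻¹) p = p ↔ img q (img h p) = img h p
  rw [img_mul, img_mul]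
  constructor
  · intro e
    have := congrArg (img h) e
    rwa [img_img_inv] at this
  · intro e
    rw [e, img_inv_img]

/-- The element `x`. -/
noncomputable def eX : HGroup := ql xS

/-- The element `y`. -/
noncomputable def eY : HGroup := ql yS

/-- The element of a code. -/
noncomputable def pEl (v : Nat) : HGroup := eX ^ (v / 7) * eY ^ (v % 7)

/-- The word of a code. -/
def pW (v : Nat) : List Nat :=
  (List.replicate (v / 7) xS).flatten ++ (List.replicate (v % 7) yS).flatten

theorem ql_replicate (l : List Nat) : ∀ n : Nat, ql (List.replicate n l).flatten = ql l ^ n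
  | 0 => by simp [ql]
  | n + 1 => by rw [List.replicate_succ, List.flatten_cons, ql_append, ql_replicate l n, pow_succ']

theorem ql_pW (v : Nat) : ql (pW v) = pEl v := by
  rw [pW, ql_append, ql_replicate, ql_replicate]; rfl

theorem ql_nil : ql [] = 1 := rfl

theorem eX_comm : eX * eY = eY * eX := by
  rw [eX, eY, ← ql_append, ← ql_append]
  exact ql_eq (by decide +kernel)

theorem eX_seven : eX ^ 7 = 1 := by
  rw [eX, ← ql_replicate, ← ql_nil]
  exact ql_eq (by decide +kernel)

theorem eY_seven : eY ^ 7 = 1 := by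
  rw [eY, ← ql_replicate, ← ql_nil]
  exact ql_eq (by decide +kernel)

theorem pow_form (i j : Nat) : eX ^ i * eY ^ j = pEl (7 * (i % 7) + j % 7) := by
  have hm : ∀ z : HGroup, z ^ 7 = 1 → ∀ n, z ^ n = z ^ (n % 7) := fun z hz n => by
    conv_lhs => rw [← Nat.mod_add_div n 7, pow_add, pow_mul, hz, one_pow, mul_one]
  rw [pEl, show (7 * (i % 7) + j % 7) / 7 = i % 7 by omega,
    show (7 * (i % 7) + j % 7) % 7 = j % 7 by omega, ← hm _ eX_seven, ← hm _ eY_seven]

theorem pEl_zero : pEl 0 = 1 := by simp [pEl]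

theorem pEl_x : pEl 7 = eX := by simp [pEl]

theorem pEl_y : pEl 1 = eY := by simp [pEl]

/-- The sum of two codes. -/
def addV (a b : Nat) : Nat := 7 * ((a / 7 + b / 7) % 7) + (a % 7 + b % 7) % 7

/-- The negative of a code. -/
def negV (a : Nat) : Nat := 7 * ((7 - a / 7) % 7) + (7 - a % 7) % 7

theorem pEl_mul (a b : Nat) : pEl a * pEl b = pEl (addV a b) := by
  rw [addV, ← pow_form, pow_add, pow_add]
  show eX ^ (a / 7) * eY ^ (a % 7) * (eX ^ (b / 7) * eY ^ (b % 7)) = _
  rw [mul_assoc (eX ^ (a / 7)), ← mul_assoc (eY ^ (a % 7)),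
    ((show Commute eX eY from eX_comm).pow_pow (b / 7) (a % 7)).symm.eq]
  simp only [mul_assoc]

theorem addV_lt (a b : Nat) : addV a b < 49 := by unfold addV; omega

theorem negV_lt (a : Nat) : negV a < 49 := by unfold negV; omega

theorem pEl_comm (a b : Nat) : pEl a * pEl b = pEl b * pEl a := by
  rw [pEl_mul, pEl_mul, addV, addV, Nat.add_comm (a / 7), Nat.add_comm (a % 7)]

theorem pEl_neg {a : Nat} (ha : a < 49) : pEl (negV a) = (pEl a)⁻¹ := by
  refine eq_inv_of_mul_eq_one_left ?_
  rw [pEl_mul, show addV (negV a) a = 0 by unfold addV negV; omega, pEl_zero]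

theorem pEl_pow (a n : Nat) : pEl a ^ n = pEl (7 * (n * (a / 7) % 7) + n * (a % 7) % 7) := by
  rw [← pow_form]
  show (eX ^ (a / 7) * eY ^ (a % 7)) ^ n = _
  rw [((show Commute eX eY from eX_comm).pow_pow _ _).mul_pow, ← pow_mul, ← pow_mul,
    Nat.mul_comm (a / 7), Nat.mul_comm (a % 7)]

theorem pEl_seven (a : Nat) : pEl a ^ 7 = 1 := by
  rw [pEl_pow, Nat.mul_mod_right, Nat.mul_mod_right]; exact pEl_zero

theorem pEl_ne_one_check :
    allFrom (fun v => Bool.not (Nat.beq (tupOf (pW v)) (tupOf []))) 1 48 = true := by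
  decide +kernel

theorem pW_ok : ∀ v : Fin 49, okL (pW v.val) = true := by decide +kernel

theorem pEl_eq_one {v : Nat} (hv : v < 49) (h : pEl v = 1) : v = 0 := by
  by_contra h0
  have h1 := (allFrom_iff _ _ _).1 pEl_ne_one_check v (Nat.pos_of_ne_zero h0) (by omega)
  rw [← ql_pW, ← ql_nil] at h
  have e := congrArg model.tup h
  rw [tup_ql _ (pW_ok ⟨v, hv⟩), tup_ql [] rfl] at e
  rw [e, Nat.beq_refl] at h1
  exact Bool.noConfusion h1

theorem pEl_inj {a b : Nat} (ha : a < 49) (hb : b < 49) (h : pEl a = pEl b) : a = b := by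
  have e : pEl (addV a (negV b)) = 1 := by rw [← pEl_mul, pEl_neg hb, h, mul_inv_cancel]
  have := pEl_eq_one (addV_lt _ _) e
  unfold addV negV at this
  omega

/-- The subgroup `P`. -/
noncomputable def Pd : Subgroup HGroup where
  carrier := {q | ∃ v < 49, q = pEl v}
  one_mem' := ⟨0, by norm_num, pEl_zero.symm⟩
  mul_mem' := by
    rintro _ _ ⟨a, -, rfl⟩ ⟨b, -, rfl⟩
    exact ⟨_, addV_lt a b, pEl_mul a b⟩
  inv_mem' := by
    rintro _ ⟨a, ha, rfl⟩
    exact ⟨_, negV_lt a, (pEl_neg ha).symm⟩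

theorem mem_Pd {q : HGroup} : q ∈ Pd ↔ ∃ v < 49, q = pEl v := Iff.rfl

theorem pEl_mem {v : Nat} (hv : v < 49) : pEl v ∈ Pd := ⟨v, hv, rfl⟩

theorem card_Pd : Nat.card Pd = 49 := by
  have hb : Function.Bijective fun v : Fin 49 => (⟨pEl v.val, pEl_mem v.2⟩ : Pd) :=
    ⟨fun a b h => Fin.ext (pEl_inj a.2 b.2 (congrArg Subtype.val h)),
      fun ⟨_, v, hv, e⟩ => ⟨⟨v, hv⟩, Subtype.ext e.symm⟩⟩
  rw [← Nat.card_congr (Equiv.ofBijective _ hb), Nat.card_fin]

/-- The image of a code under the endomorphism given by two codes. -/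
noncomputable def app (m₀ m₁ v : Nat) : Nat :=
  Nat.add (Nat.mul 7 (Nat.mod (Nat.add (Nat.mul (Nat.div v 7) (Nat.div m₀ 7))
      (Nat.mul (Nat.mod v 7) (Nat.div m₁ 7))) 7))
    (Nat.mod (Nat.add (Nat.mul (Nat.div v 7) (Nat.mod m₀ 7))
      (Nat.mul (Nat.mod v 7) (Nat.mod m₁ 7))) 7)

theorem app_lt (m₀ m₁ v : Nat) : app m₀ m₁ v < 49 := by
  show 7 * ((v / 7 * (m₀ / 7) + v % 7 * (m₁ / 7)) % 7) +
    (v / 7 * (m₀ % 7) + v % 7 * (m₁ % 7)) % 7 < 49
  omega

theorem app_spec (m₀ m₁ v : Nat) : pEl m₀ ^ (v / 7) * pEl m₁ ^ (v % 7) = pEl (app m₀ m₁ v) := by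
  rw [pEl_pow, pEl_pow, pEl_mul]
  congr 1
  show addV (7 * (v / 7 * (m₀ / 7) % 7) + v / 7 * (m₀ % 7) % 7)
    (7 * (v % 7 * (m₁ / 7) % 7) + v % 7 * (m₁ % 7) % 7) =
    7 * ((v / 7 * (m₀ / 7) + v % 7 * (m₁ / 7)) % 7) + (v / 7 * (m₀ % 7) + v % 7 * (m₁ % 7)) % 7
  unfold addV
  omega

/-- Whether a code has 21 fixed points. -/
noncomputable def inA (v : Nat) : Bool := Nat.beq (Nat.mod (Nat.shiftRight aSet v) 2) 1

/-- `x` applied `n` times to a point. -/
noncomputable def itP (perm : Nat) : Nat → Nat → Nat :=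
  fun n => Nat.rec (fun p => p) (fun _ ih p => force (getP perm p) fun q => ih q) n

theorem itP_succ (perm n p : Nat) : itP perm (n + 1) p = itP perm n (getP perm p) := by
  show force (getP perm p) (fun q => itP perm n q) = _
  rw [force_eq]

theorem perm_ok : allFrom (fun p => gate (Nat.beq (getP xPerm p) (goL tab.act xS p))
    (Nat.beq (getP yPerm p) (goL tab.act yS p))) 0 819 = true := by decide +kernel

theorem xS_ok : okL xS = true := by decide +kernel

theorem yS_ok : okL yS = true := by decide +kernel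

theorem perm_spec (p : Fin 819) :
    getP xPerm p.val = (img eX p).val ∧ getP yPerm p.val = (img eY p).val := by
  have h := allFrom_all perm_ok p.2
  simp only [gate_eq, Bool.and_eq_true] at h
  rw [eX, eY, img_ql _ xS_ok, img_ql _ yS_ok]
  exact ⟨Nat.eq_of_beq_eq_true h.1, Nat.eq_of_beq_eq_true h.2⟩

theorem itP_spec {perm : Nat} {q : HGroup} (hq : ∀ p : Fin 819, getP perm p.val = (img q p).val) :
    ∀ (n : Nat) (p : Fin 819), itP perm n p.val = (img (q ^ n) p).val
  | 0, p => by rw [pow_zero, img_one]; rfl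
  | n + 1, p => by rw [itP_succ, hq, itP_spec hq n, pow_succ', img_mul]

/-- A code fixes a point. -/
noncomputable def fixesV (v p : Nat) : Bool :=
  Nat.beq (itP yPerm (Nat.mod v 7) (itP xPerm (Nat.div v 7) p)) p

theorem fix_table : (List.range 49).all (fun v => Nat.beq v 0 ||
    Nat.beq ((List.range 819).countP (fixesV v)) (Bool.rec (motive := fun _ => Nat) 0 21 (inA v))) =
    true := by decide +kernel

theorem fixCnt_pEl {v : Nat} (hv : v < 49) (h0 : v ≠ 0) :
    fixCnt (pEl v) = if inA v then 21 else 0 := by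
  classical
  have h := List.all_eq_true.1 fix_table v (List.mem_range.2 hv)
  rw [Bool.or_eq_true] at h
  rcases h with h | h
  · exact absurd (Nat.eq_of_beq_eq_true h) h0
  have hmem : ∀ p : Fin 819, img (pEl v) p = p ↔ fixesV v p.val = true := by
    intro p
    rw [pEl, img_mul, fixesV, Nat.beq_eq, Fin.ext_iff]
    rw [show Nat.div v 7 = v / 7 from rfl, show Nat.mod v 7 = v % 7 from rfl,
      itP_spec (fun p => (perm_spec p).1), itP_spec (fun p => (perm_spec p).2)]
  have hc : fixCnt (pEl v) = (List.range 819).countP (fixesV v) := by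
    rw [fixCnt, Nat.card_congr (Equiv.subtypeEquivRight hmem), Nat.card_eq_fintype_card,
      Fintype.card_subtype, Finset.card_def, Finset.filter_val]
    show (Multiset.filter _ (↑(List.finRange 819) : Multiset (Fin 819))).card = _
    rw [Multiset.filter_coe, Multiset.coe_card, List.countP_eq_length_filter,
      ← List.map_coe_finRange_eq_range, List.filter_map, List.length_map]
    congr 1
    exact List.filter_congr fun p _ => by simp [Function.comp]
  rw [hc, Nat.eq_of_beq_eq_true h]
  cases inA v <;> simp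

theorem inA_zero : inA 0 = false := by decide +kernel

theorem inA_x : inA 7 = true := by decide +kernel

theorem fixCnt_eX : fixCnt eX = 21 := by
  rw [← pEl_x, fixCnt_pEl (by norm_num) (by norm_num), inA_x, if_pos rfl]

theorem inA_iff {v : Nat} (hv : v < 49) (h0 : v ≠ 0) : inA v = true ↔ fixCnt (pEl v) = 21 := by
  rw [fixCnt_pEl hv h0]
  cases inA v <;> simp

/-- Conjugation by an element acting on `x` and `y` by two codes. -/
theorem conj_pEl {G : Type*} [Group G] (f : HGroup →* G) (g : G) {m₀ m₁ : Nat}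
    (hx : g * f eX * g⁻¹ = f (pEl m₀)) (hy : g * f eY * g⁻¹ = f (pEl m₁)) (v : Nat) :
    g * f (pEl v) * g⁻¹ = f (pEl (app m₀ m₁ v)) := by
  rw [← app_spec, map_mul, map_pow, map_pow, ← hx, ← hy, conj_pow, conj_pow,
    show pEl v = eX ^ (v / 7) * eY ^ (v % 7) from rfl, map_mul, map_pow, map_pow]
  group

end Cfsg.Agent.DCoset.Th.Aut
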