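import Cfsg.Agent.DCoset.Th.Aut.CentData

/-!
# The centraliser of `x` in `<a, b, c, d, e, s, t>`

It permutes the 21 fixed points of `x`; an element fixing them all is a power of `x`, and the
permutation is determined by the images of three of them.
-/

set_option autoImplicit false
set_option maxRecDepth 100000

namespace Cfsg.Agent.DCoset.Th.Aut

open Cfsg.Agent.DCoset Cfsg.Agent.DCoset.Th Cfsg.Agent.CosetCert

/-- The first two points outside. -/
noncomputable def startC : Bool :=
  allFrom (fun a => Nat.beq (getP seqK a) (getL fPts a)) 0 21 &&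
    Nat.beq (getP seqK 21) r0 && Nat.beq (getP seqK 22) (getP xPerm r0) && Nat.blt r0 819

theorem start_check : startC = true := by decide +kernel

theorem seqK_step : allFrom (fun k => force (getP parK k) fun r => force (getP mvK k) fun m =>
    gate (Nat.blt r k) (gate (Nat.blt m k)
      (Nat.beq (actW tab.act (getP seqK r) (ptWS.get (getP seqK m))) (getP seqK k)))) 23 796 = true := by
  decide +kernel

theorem seqK_lt : allFrom (fun k => Nat.blt (getP seqK k) 819) 0 819 = true ∧
    coverC seqK posK = true := by decide +kernel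

/-- An element commuting with `x` and fixing its fixed points and `r₀` is trivial. -/
theorem fix_rigid {q : HGroup} (hc : q * eX = eX * q) (hF : ∀ a < 21, img q (fp a) = fp a)
    (hr : img q (Fin.ofNat 819 r0) = Fin.ofNat 819 r0) : q = 1 := by
  have hs := start_check
  simp only [startC, Bool.and_eq_true] at hs
  obtain ⟨⟨⟨hs0, hs1⟩, hs2⟩, hr819⟩ := hs
  have hr0 : (Fin.ofNat 819 r0).val = r0 := by
    rw [Fin.val_ofNat, Nat.mod_eq_of_lt (Nat.ble_eq.mp hr819)]
  have key : ∀ k, k < 819 → ∀ p : Fin 819, p.val = getP seqK k → img q p = p := by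
    intro k
    induction k using Nat.strong_induction_on with
    | _ k ih =>
      intro hk p hp
      by_cases h21 : k < 21
      · rw [Nat.eq_of_beq_eq_true (allFrom_all hs0 h21)] at hp
        rw [show p = fp k from Fin.ext (hp.trans (fp_spec h21).1.symm)]
        exact hF k h21
      by_cases h22 : k = 21
      · subst h22
        rw [Nat.eq_of_beq_eq_true hs1] at hp
        rw [show p = Fin.ofNat 819 r0 from Fin.ext (hp.trans hr0.symm)]
        exact hr
      by_cases h23 : k = 22
      · subst h23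
        rw [Nat.eq_of_beq_eq_true hs2] at hp
        have hp' : p = img eX (Fin.ofNat 819 r0) := Fin.ext (by
          rw [← (perm_spec _).1, hr0]; exact hp)
        rw [hp', ← img_mul, ← hc, img_mul, hr]
      have h := (allFrom_iff _ _ _).1 seqK_step k (by omega) (by omega)
      simp only [force_eq, gate_eq, Bool.and_eq_true] at h
      obtain ⟨hr', hm, he⟩ := h
      have hr' : getP parK k < k := Nat.ble_eq.mp hr'
      have hm : getP mvK k < k := Nat.ble_eq.mp hm
      have hlr := Nat.ble_eq.mp (allFrom_all seqK_lt.1 (show getP parK k < 819 by omega))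
      have hlm := Nat.ble_eq.mp (allFrom_all seqK_lt.1 (show getP mvK k < 819 by omega))
      have hp' : p = img (cnj ⟨_, hlm⟩) ⟨_, hlr⟩ := Fin.ext (by
        rw [img_cnj_val]; exact hp.trans (Nat.eq_of_beq_eq_true he).symm)
      rw [hp']
      exact fix_spread (ih _ hm (by omega) _ rfl) (ih _ hr' (by omega) _ rfl)
  refine eq_one_of_fix_all fun p => ?_
  exact cover_spec seqK_lt.2 (fun n => ∀ p : Fin 819, p.val = n → img q p = p) key p.val p.2 p rfl

theorem orb_check : allFrom (fun p => Bool.rec (motive := fun _ => Bool) true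
    (xOrb.any fun r => Nat.beq r p)
    ((List.range 21).all fun a => Nat.beq (col a p) (col a r0))) 0 819 = true := by decide +kernel

theorem orb_pow : allFrom (fun j => Nat.beq (itP xPerm j r0) (getL xOrb j)) 0 7 = true ∧
    xOrb.length = 7 := by decide +kernel

/-- An element commuting with `x` and fixing its fixed points is a power of `x`. -/
theorem fix_pow {q : HGroup} (hc : q * eX = eX * q) (hF : ∀ a < 21, img q (fp a) = fp a) :
    ∃ j < 7, q = eX ^ j := by
  have hr819 : r0 < 819 := by
    have hs := start_check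
    simp only [startC, Bool.and_eq_true] at hs
    exact Nat.ble_eq.mp hs.2
  have hr0 : (Fin.ofNat 819 r0).val = r0 := by rw [Fin.val_ofNat, Nat.mod_eq_of_lt hr819]
  let p := img q (Fin.ofNat 819 r0)
  have hsig : ((List.range 21).all fun a => Nat.beq (col a p.val) (col a r0)) = true := by
    rw [List.all_eq_true]
    intro a ha
    have ha := List.mem_range.1 ha
    rw [Nat.beq_eq, ← col_spec ha]
    conv_rhs => rw [← hr0, ← col_spec ha, ← orderOf_cnj_img q, hF a ha]
  have h := allFrom_all orb_check p.2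
  rw [hsig] at h
  obtain ⟨r, hr, he⟩ := List.any_eq_true.1 h
  obtain ⟨j, hj, rfl⟩ := List.mem_iff_getElem.1 hr
  have hj7 : j < 7 := orb_pow.2 ▸ hj
  have hp : img (eX ^ j) (Fin.ofNat 819 r0) = p := Fin.ext (by
    rw [← itP_spec (fun p => (perm_spec p).1) j, hr0,
      Nat.eq_of_beq_eq_true (allFrom_all orb_pow.1 hj7), getL_eq, List.getD_eq_getElem _ _ hj]
    exact Nat.eq_of_beq_eq_true he)
  have hxF : ∀ n : Nat, ∀ a < 21, img (eX ^ n) (fp a) = fp a := fun n a ha => by
    induction n with
    | zero => rw [pow_zero, img_one]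
    | succ n ih => rw [pow_succ, img_mul, ih, (fp_spec ha).2.2.2.1]
  refine ⟨j, hj7, ?_⟩
  rw [← mul_inv_eq_one]
  refine fix_rigid ?_ (fun a ha => ?_) ?_
  · exact (Commute.mul_left hc ((Commute.refl eX).pow_left j).inv_left).eq
  · rw [img_mul, hF a ha]
    conv_lhs => rw [← hxF j a ha, img_inv_img]
  · rw [img_mul]
    show img (eX ^ j)⁻¹ p = _
    rw [← hp, img_inv_img]

/-- The images of all fixed points from those of three. -/
noncomputable def extL (prog : List (List Nat)) (s : List Nat) : List Nat :=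
  List.rec (motive := fun _ => List Nat → List Nat) (fun s => s)
    (fun e _ ih s => force (getQ fMulN (Nat.add (Nat.mul 21 (getL s (getL e 1))) (getL s (getL e 0))))
      fun v => ih (s ++ [v])) prog s

/-- The program is well formed from position `n`. -/
noncomputable def progC (prog : List (List Nat)) (n : Nat) : Bool :=
  List.rec (motive := fun _ => Nat → Bool) (fun n => Nat.beq n 21)
    (fun e _ ih n => gate (Nat.blt (getL e 0) n) (gate (Nat.blt (getL e 1) n)
      (gate (Nat.beq (getQ fMulN (Nat.add (Nat.mul 21 (getL e 1)) (getL e 0))) n)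
        (gate (Nat.blt n 21) (ih (Nat.succ n)))))) prog n

theorem progC_cons (e : List Nat) (prog : List (List Nat)) (n : Nat) : progC (e :: prog) n =
    (Nat.blt (getL e 0) n && (Nat.blt (getL e 1) n &&
      (Nat.beq (getQ fMulN (21 * getL e 1 + getL e 0)) n && (Nat.blt n 21 && progC prog (n + 1))))) := by
  show gate _ (gate _ (gate _ (gate _ (progC prog (Nat.succ n))))) = _
  simp only [gate_eq]
  rfl

theorem prog_ok : progC fProg 3 = true := by decide +kernel

theorem getL_append_left (s : List Nat) (v : Nat) {k : Nat} (h : k < s.length) :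
    getL (s ++ [v]) k = getL s k := by
  rw [getL_eq, getL_eq, List.getD_eq_getElem _ _ (by simp; omega), List.getD_eq_getElem _ _ h,
    List.getElem_append_left]

theorem getL_append_right (s : List Nat) (v : Nat) : getL (s ++ [v]) s.length = v := by
  rw [getL_eq, List.getD_eq_getElem _ _ (by simp), List.getElem_append_right (le_refl _)]
  simp

theorem ext_spec (q : HGroup) : ∀ (prog : List (List Nat)) (s : List Nat),
    progC prog s.length = true →
    (∀ k < s.length, getL s k < 21 ∧ img q (fp k) = fp (getL s k)) →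
    ∀ k < 21, getL (extL prog s) k < 21 ∧ img q (fp k) = fp (getL (extL prog s) k) := by
  intro prog
  induction prog with
  | nil =>
    intro s hp hs k hk
    exact hs k (Nat.eq_of_beq_eq_true hp ▸ hk)
  | cons e prog ih =>
    intro s hp hs
    rw [progC_cons] at hp
    simp only [Bool.and_eq_true] at hp
    obtain ⟨h0, h1, he, hn, hrest⟩ := hp
    have h0 : getL e 0 < s.length := Nat.ble_eq.mp h0
    have h1 : getL e 1 < s.length := Nat.ble_eq.mp h1
    have hn : s.length < 21 := Nat.ble_eq.mp hn
    show ∀ k < 21, getL (force _ fun v => extL prog (s ++ [v])) k < 21 ∧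
      img q (fp k) = fp (getL (force _ fun v => extL prog (s ++ [v])) k)
    rw [force_eq]
    refine ih _ ?_ ?_
    · rw [List.length_append, List.length_singleton]
      exact hrest
    intro k hk
    rw [List.length_append, List.length_singleton] at hk
    by_cases hk' : k < s.length
    · rw [getL_append_left _ _ hk']; exact hs k hk'
    obtain rfl : k = s.length := by omega
    rw [getL_append_right]
    obtain ⟨hl0, hi0⟩ := hs _ h0
    obtain ⟨hl1, hi1⟩ := hs _ h1
    refine ⟨(fmul_spec hl1 hl0).1, ?_⟩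
    have he' : getQ fMulN (21 * getL e 1 + getL e 0) = s.length := Nat.eq_of_beq_eq_true he
    rw [← he', ← (fmul_spec (by omega) (by omega)).2, img_cnj_img, hi0, hi1,
      (fmul_spec hl1 hl0).2]
    rfl

/-- The action of a power of `y` on the fixed points. -/
noncomputable def yI (i a : Nat) : Nat := getL (yImgs.getD i []) a

theorem yI_check : allFrom (fun a => gate (Nat.beq (yI 0 a) a) (allFrom (fun i =>
    gate (Nat.beq (yI (Nat.succ i) a) (getL fY (yI i a))) (Nat.blt (yI (Nat.succ i) a) 21)) 0 6))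
    0 21 = true ∧ vIx < 21 := by decide +kernel

theorem yI_spec : ∀ {i : Nat}, i < 7 → ∀ a < 21, yI i a < 21 ∧ img (eY ^ i) (fp a) = fp (yI i a) := by
  intro i
  induction i with
  | zero =>
    intro _ a ha
    have h := allFrom_all yI_check.1 ha
    simp only [gate_eq, Bool.and_eq_true] at h
    rw [Nat.eq_of_beq_eq_true h.1, pow_zero, img_one]
    exact ⟨ha, rfl⟩
  | succ i ih =>
    intro hi a ha
    have h := allFrom_all yI_check.1 ha
    simp only [gate_eq, Bool.and_eq_true] at h
    have h' := allFrom_all h.2 (show i < 6 by omega)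
    simp only [gate_eq, Bool.and_eq_true] at h'
    obtain ⟨hl, he⟩ := ih (by omega) a ha
    refine ⟨Nat.ble_eq.mp h'.2, ?_⟩
    rw [pow_succ, img_mul, he, (fp_spec hl).2.2.2.2.1, Nat.eq_of_beq_eq_true h'.1]

/-- Colours among three images are as among the points. -/
noncomputable def preC (c₀ c₁ c₂ : Nat) : Bool :=
  gate (Nat.beq (getQ fColN (Nat.add (Nat.mul 21 c₀) c₁)) (getQ fColN 1))
    (gate (Nat.beq (getQ fColN (Nat.add (Nat.mul 21 c₀) c₂)) (getQ fColN 2))
      (Nat.beq (getQ fColN (Nat.add (Nat.mul 21 c₁) c₂)) (getQ fColN 23)))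

/-- A candidate for the permutation of an involution `z` with `(y z)^3 = 1` is trivial or that of
a conjugate of `v`. -/
noncomputable def invC (s : List Nat) : Bool :=
  Bool.rec (motive := fun _ => Bool) true
    (allFrom (fun a => Nat.beq (getL s a) a) 0 21 ||
      (List.range 7).any fun i => allFrom (fun a => Nat.beq (getL s a)
        (yI ((7 - i) % 7) (getQ fMulN (Nat.add (Nat.mul 21 vIx) (yI i a))))) 0 21)
    (gate (allFrom (fun a => Nat.beq (getL s (getL s a)) a) 0 21)
      (allFrom (fun a => Nat.beq (getL s (getL fY (getL s (getL fY (getL s (getL fY a)))))) a) 0 21))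

/-- A candidate commuting with `y` is that of a power of `y`. -/
noncomputable def comC (s : List Nat) : Bool :=
  Bool.rec (motive := fun _ => Bool) true
    ((List.range 7).any fun i => allFrom (fun a => Nat.beq (getL s a) (yI i a)) 0 21)
    (allFrom (fun a => Nat.beq (getL s (getL fY a)) (getL fY (getL s a))) 0 21)

theorem cand_check : allFrom (fun c₀ => allFrom (fun c₁ => allFrom (fun c₂ =>
    Bool.rec (motive := fun _ => Bool) true
      (gate (invC (extL fProg [c₀, c₁, c₂])) (comC (extL fProg [c₀, c₁, c₂])))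
      (preC c₀ c₁ c₂)) 0 21) 0 21) 0 21 = true := by
  decide +kernel

/-- The permutation of an element commuting with `x` is among the candidates. -/
theorem exists_cand {q : HGroup} (hc : q * eX = eX * q) : ∃ s : List Nat,
    (∀ k < 21, getL s k < 21 ∧ img q (fp k) = fp (getL s k)) ∧ invC s = true ∧ comC s = true := by
  have him : ∀ a, ∃ c, a < 21 → c < 21 ∧ img q (fp a) = fp c := fun a => by
    by_cases ha : a < 21
    · obtain ⟨c, hc', e⟩ := exists_fp (p := img q (fp a))
        (by rw [← img_mul, hc, img_mul, (fp_spec ha).2.2.2.1])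
      exact ⟨c, fun _ => ⟨hc', e⟩⟩
    · exact ⟨0, fun h => absurd h ha⟩
  choose c hcs using him
  obtain ⟨h0, e0⟩ := hcs 0 (by norm_num)
  obtain ⟨h1, e1⟩ := hcs 1 (by norm_num)
  obtain ⟨h2, e2⟩ := hcs 2 (by norm_num)
  refine ⟨extL fProg [c 0, c 1, c 2], ext_spec q fProg _ prog_ok ?_, ?_⟩
  · intro k hk
    change k < 3 at hk
    interval_cases k
    exacts [⟨h0, e0⟩, ⟨h1, e1⟩, ⟨h2, e2⟩]
  have hcolor : ∀ a b ca cb, a < 21 → b < 21 → ca < 21 → cb < 21 → img q (fp a) = fp ca →
      img q (fp b) = fp cb → getQ fColN (21 * ca + cb) = getQ fColN (21 * a + b) := by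
    intro a b ca cb la lb lca lcb ea eb
    rw [← fcol_spec la lb, ← fcol_spec lca lcb, ← ea, ← eb, orderOf_cnj_img]
  have hpre : preC (c 0) (c 1) (c 2) = true := by
    simp only [preC, gate_eq, Bool.and_eq_true, Nat.beq_eq]
    exact ⟨hcolor 0 1 _ _ (by norm_num) (by norm_num) h0 h1 e0 e1,
      hcolor 0 2 _ _ (by norm_num) (by norm_num) h0 h2 e0 e2,
      hcolor 1 2 _ _ (by norm_num) (by norm_num) h1 h2 e1 e2⟩
  have h := allFrom_all (allFrom_all (allFrom_all cand_check h0) h1) h2
  rw [hpre] at h
  simp only [gate_eq, Bool.and_eq_true] at h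
  exact h

/-- An involution centralising `x`. -/
noncomputable def eV : HGroup := cnj (fp vIx)

theorem eV_comm : eV * eX = eX * eV :=
  ((fix_iff_comm eX (fp vIx)).1 (fp_spec yI_check.2).2.2.2.1).symm

theorem eV_img {a : Nat} (ha : a < 21) : img eV (fp a) = fp (getQ fMulN (21 * vIx + a)) :=
  (fmul_spec yI_check.2 ha).2

theorem eV_sq : eV * eV = 1 := by
  have h : orderOf (cnj (fp vIx) * cnj (fp vIx)) = orderOf (cnj p0 * cnj p0) := by
    obtain ⟨-, -, h0, -⟩ := fp_spec yI_check.2
    rw [← orderOf_cnj_img (ql (trW vIx)) (fp vIx) (fp vIx), h0]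
  rw [(ord_spec p0).1, show ordAt (p0 : Fin 819).val = 1 from by decide +kernel] at h
  exact orderOf_eq_one_iff.1 h

theorem eY_inv_pow {i : Nat} (hi : i < 7) : (eY ^ i)⁻¹ = eY ^ ((7 - i) % 7) := by
  refine inv_eq_of_mul_eq_one_right ?_
  rw [← pow_add]
  rcases Nat.eq_zero_or_pos i with rfl | h0
  · simp
  · rw [Nat.mod_eq_of_lt (by omega), Nat.add_sub_cancel' (by omega), eY_seven]

/-- The involutions `z` centralising `x` with `(y z)^3 = 1` are conjugate to `v` by powers of
`y`. -/
theorem cent_inv {z : HGroup} (hc : z * eX = eX * z) (h2 : z * z = 1) (hne : z ≠ 1)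
    (h3 : (eY * z) ^ 3 = 1) : ∃ i < 7, z = eY ^ i * eV * (eY ^ i)⁻¹ := by
  obtain ⟨s, hs, hinv, -⟩ := exists_cand hc
  have hcx2 : ∀ j, j < 7 → (eX ^ j) * (eX ^ j) = 1 → j = 0 := by
    intro j hj e
    rw [← pow_add, show eX ^ (j + j) = eX ^ (j + j) * eY ^ 0 by simp, pow_form] at e
    have := pEl_eq_one (by omega) e
    omega
  have hyinj : ∀ {u v}, u < 21 → v < 21 → fp u = fp v → u = v := fun {u v} hu hv e => by
    have huv := congrArg Fin.val e
    rw [(fp_spec hu).1, (fp_spec hv).1] at huv
    exact fp_index hu hv huv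
  have hI : allFrom (fun a => Nat.beq (getL s (getL s a)) a) 0 21 = true := by
    rw [allFrom_iff]
    intro a _ ha
    obtain ⟨hl, e⟩ := hs a (by omega)
    obtain ⟨hl', e'⟩ := hs _ hl
    rw [Nat.beq_eq]
    refine hyinj hl' (by omega) ?_
    rw [← e', ← e, ← img_mul, h2, img_one]
  have hY : allFrom (fun a => Nat.beq
      (getL s (getL fY (getL s (getL fY (getL s (getL fY a)))))) a) 0 21 = true := by
    rw [allFrom_iff]
    intro a _ ha
    have st : ∀ b < 21, getL s (getL fY b) < 21 ∧ img (eY * z) (fp b) = fp (getL s (getL fY b)) :=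
      fun b hb => by
        obtain ⟨-, -, -, -, ey, hyl⟩ := fp_spec hb
        exact ⟨(hs _ hyl).1, by rw [img_mul, ey, (hs _ hyl).2]⟩
    obtain ⟨l1, e1⟩ := st a (by omega)
    obtain ⟨l2, e2⟩ := st _ l1
    obtain ⟨l3, e3⟩ := st _ l2
    rw [Nat.beq_eq]
    refine hyinj l3 (by omega) ?_
    rw [← e3, ← e2, ← e1, ← img_mul, ← img_mul, show eY * z * (eY * z * (eY * z)) = (eY * z) ^ 3 by
      simp [pow_succ, mul_assoc], h3, img_one]
  simp only [invC, gate_eq, hI, hY, Bool.and_self, Bool.or_eq_true] at hinv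
  rcases hinv with h | h
  · exfalso
    obtain ⟨j, hj, rfl⟩ := fix_pow hc (fun a ha => by
      rw [(hs a ha).2, Nat.eq_of_beq_eq_true (allFrom_all h ha)])
    exact hne (by rw [hcx2 j hj h2, pow_zero])
  obtain ⟨i, hi, h⟩ := List.any_eq_true.1 h
  have hi := List.mem_range.1 hi
  refine ⟨i, hi, ?_⟩
  set w := eY ^ i * eV * (eY ^ i)⁻¹ with hw
  have hwx : w * eX = eX * w := by
    have c1 : Commute (eY ^ i) eX := (show Commute eY eX from eX_comm.symm).pow_left i
    exact ((c1.mul_left eV_comm).mul_left c1.inv_left).eq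
  have hw2 : w * w = 1 := by
    rw [hw, show eY ^ i * eV * (eY ^ i)⁻¹ * (eY ^ i * eV * (eY ^ i)⁻¹) =
      eY ^ i * (eV * eV) * (eY ^ i)⁻¹ by group, eV_sq, mul_one, mul_inv_cancel]
  have hwimg : ∀ a < 21, img w (fp a) = img z (fp a) := by
    intro a ha
    obtain ⟨l1, e1⟩ := yI_spec hi a ha
    obtain ⟨l2, e2⟩ := fmul_spec yI_check.2 l1
    obtain ⟨l3, e3⟩ := yI_spec (show (7 - i) % 7 < 7 by omega) _ l2
    rw [hw, eY_inv_pow hi, img_mul, img_mul, e1, eV_img l1, e3, (hs a ha).2,
      Nat.eq_of_beq_eq_true (allFrom_all h ha)]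
    rfl
  have hzw : z * w⁻¹ * eX = eX * (z * w⁻¹) :=
    ((show Commute z eX from hc).mul_left (show Commute w eX from hwx).inv_left).eq
  obtain ⟨j, hj, hz⟩ := fix_pow hzw (fun a ha => by rw [img_mul, ← hwimg a ha, img_inv_img])
  have hzeq : z = eX ^ j * w := by rw [← hz]; group
  have hj0 : j = 0 := by
    refine hcx2 j hj ?_
    have c := ((show Commute w eX from hwx).pow_right j).eq
    calc eX ^ j * eX ^ j = eX ^ j * eX ^ j * (w * w) := by rw [hw2, mul_one]
      _ = eX ^ j * (eX ^ j * w) * w := by group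
      _ = eX ^ j * w * (eX ^ j * w) := by
        conv_lhs => rw [← c]
        group
      _ = 1 := by rw [← hzeq, h2]
  rw [hzeq, hj0, pow_zero, one_mul]

/-- The centraliser of `x` and `y`. -/
theorem cent_P {q : HGroup} (hc : q * eX = eX * q) (hy : q * eY = eY * q) : q ∈ Pd := by
  obtain ⟨s, hs, -, hcom⟩ := exists_cand hc
  have hC : allFrom (fun a => Nat.beq (getL s (getL fY a)) (getL fY (getL s a))) 0 21 = true := by
    rw [allFrom_iff]
    intro a _ ha
    obtain ⟨-, -, -, -, ey, hyl⟩ := fp_spec (show a < 21 by omega)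
    obtain ⟨hl, e⟩ := hs a (by omega)
    obtain ⟨-, -, -, -, ey', hyl'⟩ := fp_spec hl
    rw [Nat.beq_eq]
    refine fp_index (hs _ hyl).1 hyl' ?_
    rw [← (fp_spec (hs _ hyl).1).1, ← (fp_spec hyl').1, ← (hs _ hyl).2, ← ey', ← e, ← ey, ← img_mul,
      ← img_mul, hy]
  simp only [comC, hC] at hcom
  obtain ⟨i, hi, h⟩ := List.any_eq_true.1 hcom
  have hi := List.mem_range.1 hi
  have hqx : q * (eY ^ i)⁻¹ * eX = eX * (q * (eY ^ i)⁻¹) :=
    ((show Commute q eX from hc).mul_left ((show Commute eY eX from eX_comm.symm).pow_left i).inv_left).eq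
  obtain ⟨j, -, hj⟩ := fix_pow hqx (fun a ha => by
    rw [img_mul, (hs a ha).2, Nat.eq_of_beq_eq_true (allFrom_all h ha), ← (yI_spec hi a ha).2,
      img_inv_img])
  refine ⟨7 * (j % 7) + i % 7, by omega, ?_⟩
  rw [← pow_form, ← hj]
  group

end Cfsg.Agent.DCoset.Th.Aut
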