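/-! Generated: a word for `v`. -/

namespace Cfsg.Agent.DCoset.Th.Aut

/-- A word for `v`. -/
def vW : List Nat := [0, 1, 2, 3, 1, 2, 0, 1, 0, 1, 0, 2, 1, 3, 2, 1, 0]

/-- The colours between fixed points, packed by eight bits. -/
def fColN : Nat :=
  0x10404030403040404030403040302030203020302040103040304020304040304040204030302020303040301040304040302040402030403020403030302030404010403030403030204020404020402030303040303040104030404020203030402040303040203030404030401020203040302040303040403040203040204030302010403030302030404040304020403040303040402040103040304020303030204030204040402030403030301020304030203040404030402030404030204030402010403030204030304030204040304020203030303040104040302020304040403030402040302020404030401030303020303040404040403020304030203030403010403040202030404030204040403040302020303040103030302040404020403040203040303040203030301040403020404030302020404040304030202040304010304030304020304040304030204030303020304030104040402030203020303040404040403020203040401040303020203030404020303030404030402030404010304030303030202040204020404040404030403030103020302030303030402040304040404040203040301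

/-- The action of the attached involutions on the fixed points, packed by eight bits. -/
def fMulN : Nat :=
  0x140e0c010a031308120510070d09060b040f0211000613010800090e050b0c040f1107140d0a030212100401120a030e0f020c071109060b080514100d13000107091106000c040e020a12081310050d030b140f02000305100d040f070b0a08090c06110e12140113030205000b0f0e0d0a100c090406071208141301110613050c040f0e01110800090b0314121007020d0a000502030b0f090d0610070e080a0c1304111201140403120e010a11060c0b0f0502070d09141308100005030002100d080f0c0b06040e070a14091311011202040911100c00070f010a12030d06051308140b0e0702120a080f0e0100041109101403050b06130d0c0007061109010b0d020e05100813120a04030c0f14091300080106020a0c0b0d1411070f0405030e1012140e08051007130c0d010a03120f06110009020b040b0d1211060e0f1300140a0903041005070801020c140a0c030e01100d1209130b080502070411060f000f131011121402040b0c05060807090a0d030e000114130d0b0a090e120811100f0c030601000702050411121314100f090d070b060e040c0a0208000501031410120f13110a080c070e050d0b02090401060300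

end Cfsg.Agent.DCoset.Th.Aut
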