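import Cfsg.Agent.DCoset.Th.Aut.Pts
import Cfsg.Agent.DCoset.Th.Aut.Data2

/-!
# Tables for the fixed points of `x`
-/

set_option autoImplicit false
set_option maxRecDepth 100000

namespace Cfsg.Agent.DCoset.Th.Aut

open Cfsg.Agent.DCoset Cfsg.Agent.DCoset.Th Cfsg.Agent.CosetCert

/-- Entry `i` of a sequence packed by eight bits. -/
noncomputable def getQ (n i : Nat) : Nat := Nat.mod (Nat.shiftRight n (Nat.mul 8 i)) 256

/-- A fixed point of `x`. -/
noncomputable def fp (a : Nat) : Fin 819 := Fin.ofNat 819 (getL fPts a)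

/-- The word moving a fixed point to the origin. -/
noncomputable def trW (a : Nat) : List Nat := trF.getD a []

/-- The colour of a point with a fixed point. -/
noncomputable def col (a p : Nat) : Nat := ordAt (goL tab.act (trW a) p)

theorem fp_check : allFrom (fun a => gate (Nat.blt (getL fPts a) 819) (gate (okL (trW a))
    (gate (Nat.beq (goL tab.act (trW a) (getL fPts a)) 0)
      (gate (Nat.beq (getP xPerm (getL fPts a)) (getL fPts a))
        (gate (Nat.beq (getP yPerm (getL fPts a)) (getL fPts (getL fY a))) (Nat.blt (getL fY a) 21))))))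
    0 21 = true := by decide +kernel

theorem fp_spec {a : Nat} (ha : a < 21) : (fp a).val = getL fPts a ∧ okL (trW a) = true ∧
    img (ql (trW a)) (fp a) = p0 ∧ img eX (fp a) = fp a ∧ img eY (fp a) = fp (getL fY a) ∧
    getL fY a < 21 := by
  have h := allFrom_all fp_check ha
  simp only [gate_eq, Bool.and_eq_true] at h
  obtain ⟨hlt, hok, h0, hx, hy, hy'⟩ := h
  have hv : (fp a).val = getL fPts a := by
    rw [fp, Fin.val_ofNat, Nat.mod_eq_of_lt (Nat.ble_eq.mp hlt)]
  refine ⟨hv, hok, Fin.ext ?_, Fin.ext ?_, Fin.ext ?_, Nat.ble_eq.mp hy'⟩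
  · rw [img_ql _ hok, hv, Nat.eq_of_beq_eq_true h0]; rfl
  · rw [← (perm_spec _).1, hv, Nat.eq_of_beq_eq_true hx]
  · rw [← (perm_spec _).2, hv, Nat.eq_of_beq_eq_true hy, fp, Fin.val_ofNat,
      Nat.mod_eq_of_lt]
    rw [← Nat.eq_of_beq_eq_true hy]
    have h3 := (perm_spec (fp a)).2
    rw [hv] at h3
    rw [h3]
    exact (img eY (fp a)).2

theorem col_spec {a : Nat} (ha : a < 21) (p : Fin 819) :
    orderOf (cnj (fp a) * cnj p) = col a p.val := by
  obtain ⟨-, hok, h0, -⟩ := fp_spec ha
  rw [← orderOf_cnj_img (ql (trW a)) (fp a) p, h0, (ord_spec _).1, img_ql _ hok]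
  rfl

theorem fcol_check : allFrom (fun a => allFrom (fun b =>
    Nat.beq (getQ fColN (Nat.add (Nat.mul 21 a) b)) (col a (getL fPts b))) 0 21) 0 21 = true := by
  decide +kernel

theorem fcol_spec {a b : Nat} (ha : a < 21) (hb : b < 21) :
    orderOf (cnj (fp a) * cnj (fp b)) = getQ fColN (21 * a + b) := by
  rw [col_spec ha, (fp_spec hb).1]
  exact (Nat.eq_of_beq_eq_true (allFrom_all (allFrom_all fcol_check ha) hb)).symm

theorem fmul_check : allFrom (fun a => allFrom (fun b =>
    force (getQ fMulN (Nat.add (Nat.mul 21 a) b)) fun c => gate (Nat.blt c 21)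
      (Nat.beq (actW tab.act (getL fPts b) (ptWS.get (getL fPts a))) (getL fPts c))) 0 21) 0 21 = true := by
  decide +kernel

theorem fmul_spec {a b : Nat} (ha : a < 21) (hb : b < 21) : getQ fMulN (21 * a + b) < 21 ∧
    img (cnj (fp a)) (fp b) = fp (getQ fMulN (21 * a + b)) := by
  have h := allFrom_all (allFrom_all fmul_check ha) hb
  simp only [force_eq, gate_eq, Bool.and_eq_true] at h
  have hc : getQ fMulN (21 * a + b) < 21 := Nat.ble_eq.mp h.1
  refine ⟨hc, Fin.ext ?_⟩
  rw [img_cnj_val, (fp_spec ha).1, (fp_spec hb).1, (fp_spec hc).1]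
  exact Nat.eq_of_beq_eq_true h.2

theorem fp_all : allFrom (fun p => Bool.rec (motive := fun _ => Bool) true
    (fPts.any fun f => Nat.beq f p) (Nat.beq (getP xPerm p) p)) 0 819 = true ∧
    fPts.length = 21 := by decide +kernel

theorem exists_fp {p : Fin 819} (h : img eX p = p) : ∃ a < 21, p = fp a := by
  have h' := allFrom_all fp_all.1 p.2
  rw [(perm_spec p).1, h, Nat.beq_refl] at h'
  obtain ⟨f, hf, he⟩ := List.any_eq_true.1 h'
  obtain ⟨a, ha, rfl⟩ := List.mem_iff_getElem.1 hf
  have ha' : a < 21 := fp_all.2 ▸ ha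
  refine ⟨a, ha', Fin.ext ?_⟩
  rw [(fp_spec ha').1, getL_eq, List.getD_eq_getElem _ _ ha]
  exact (Nat.eq_of_beq_eq_true he).symm

theorem fp_index_check : allFrom (fun a => allFrom (fun b => Nat.beq a b ||
    Bool.not (Nat.beq (getL fPts a) (getL fPts b))) 0 21) 0 21 = true := by decide +kernel

theorem fp_index {a b : Nat} (ha : a < 21) (hb : b < 21) (h : getL fPts a = getL fPts b) : a = b := by
  have hc := allFrom_all (allFrom_all fp_index_check ha) hb
  rw [h, Nat.beq_refl] at hc
  exact Nat.eq_of_beq_eq_true (by simpa using hc)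

end Cfsg.Agent.DCoset.Th.Aut
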