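import Cfsg.Agent.DCoset.Th.Aut.Rep6

/-!
# The centraliser of an element of order seven with 21 fixed points lies in the subgroup

Such an element fixing a suborbit representative other than the base coset would lie in one of the
two stabilisers of order divisible by seven: in one of them all elements of order seven have no
fixed points, and in the other conjugation by the representative exchanges the two classes.
-/

set_option autoImplicit false
set_option maxRecDepth 100000

namespace Cfsg.Agent.DCoset.Th.Aut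

open Cfsg.Agent.DCoset Cfsg.Agent.DCoset.Th Cfsg.Agent.CosetCert

/-- The element whose inverse represents a suborbit. -/
noncomputable def repG (m : Nat) : GTh :=
  Steps.rep steps (model.toModel iota) gT (cover.live m)

theorem stab_gen_mem {m b : Nat} (hm : m < cover.nLive) (hb : b < cover.nStab m) :
    repG m * iota (model.el (cover.stabW m b)) * (repG m)⁻¹ ∈ iota.range := by
  have h := valid_model.stab_ok m b hm hb
  simp only [WalkCover.checkStab, force_eq, gate_eq, Bool.and_eq_true] at h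
  obtain ⟨⟨hw, -⟩, hs, eI, eJ, eT, eH, eK⟩ := h
  obtain ⟨-, x, y, hx, hy, hmem⟩ := facts _ (Nat.ble_eq.mp hs)
  obtain ⟨a, ha, rfl⟩ := hx
  obtain ⟨a', ha', rfl⟩ := hy
  rw [Nat.eq_of_beq_eq_true eH, WalkCover.appP_base hw] at ha
  rw [Nat.eq_of_beq_eq_true eK, ← model.one] at ha'
  rw [Nat.eq_of_beq_eq_true eI, Nat.eq_of_beq_eq_true eJ, Nat.eq_of_beq_eq_true eT, sound.T_zero,
    model.inj ha, model.inj ha'] at hmem
  simpa [repG] using hmem

/-- The subgroup fixing the coset of the inverse of `repG m`. -/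
noncomputable def nodeStab (m : Nat) : Subgroup HGroup :=
  (MulAction.stabilizer GTh (QuotientGroup.mk (repG m)⁻¹ : GTh ⧸ iota.range)).comap iota

theorem mem_nodeStab {m : Nat} {q : HGroup} :
    q ∈ nodeStab m ↔ repG m * iota q * (repG m)⁻¹ ∈ iota.range := by
  rw [nodeStab, Subgroup.mem_comap, MulAction.mem_stabilizer_iff]
  show (QuotientGroup.mk (iota q * (repG m)⁻¹) : GTh ⧸ iota.range) = QuotientGroup.mk (repG m)⁻¹ ↔ _
  rw [QuotientGroup.eq, ← inv_mem_iff]
  simp [mul_assoc]

theorem gens6_ok : (List.range 6).all (fun b => tab.okWord (cover.stabW 6 b) &&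
    okL (gens6.getD b []) &&
    Nat.beq (tab.app tab.base (cover.stabW 6 b)) (tupOf (gens6.getD b []))) = true ∧
    cover.nStab 6 = 6 := by decide +kernel

theorem gens8_ok : (List.range 3).all (fun b => tab.okWord (cover.stabW 8 b) &&
    okL (gens8.getD b []) &&
    Nat.beq (tab.app tab.base (cover.stabW 8 b)) (tupOf (gens8.getD b []))) = true ∧
    cover.nStab 8 = 3 := by decide +kernel

theorem gen6_eq {b : Nat} (hb : b < 6) : model.el (cover.stabW 6 b) = ql (gens6.getD b []) :=
  el_eq_ql (List.all_eq_true.1 gens6_ok.1 b (List.mem_range.2 hb))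

theorem gen8_eq {b : Nat} (hb : b < 3) : model.el (cover.stabW 8 b) = ql (gens8.getD b []) :=
  el_eq_ql (List.all_eq_true.1 gens8_ok.1 b (List.mem_range.2 hb))

theorem gen6_mem {b : Nat} (hb : b < 6) : ql (gens6.getD b []) ∈ nodeStab 6 := by
  rw [mem_nodeStab, ← gen6_eq hb]
  exact stab_gen_mem (show 6 < cover.nLive by decide) (gens6_ok.2.symm ▸ hb)

theorem live_sum : (6 : Nat) < cover.nLive ∧ (8 : Nat) < cover.nLive := by decide

theorem idx_facts : cover.idx 6 = 179712 ∧ cover.idx 8 = 5031936 ∧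
    ((List.range 11).all fun m => Nat.beq m 0 || Nat.beq m 6 || Nat.beq m 8 ||
      !(Nat.beq (634023936 / cover.idx m % 7) 0)) = true ∧ cover.idx 0 = 1 := by
  decide +kernel

theorem nodeStab_card (h : Big) (m : Fin cover.nLive) :
    Nat.card (nodeStab m.val) * cover.idx m = 634023936 := by
  obtain ⟨pt, -, -, -, -, hst, -, hpt⟩ := orbits_of_big h
  have e := hst m
  rw [hgroup_card_eq, hpt m] at e
  exact e

theorem nodeStab_closure (h : Big) (m : Fin cover.nLive) :
    nodeStab m.val = Subgroup.closure {x | ∃ b, b < cover.nStab m ∧ x = model.el (cover.stabW m b)} := by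
  have := hgroup_card.1
  refine (Subgroup.eq_of_le_of_card_ge ((Subgroup.closure_le _).2 ?_) ?_).symm
  · rintro _ ⟨b, hb, rfl⟩
    exact mem_nodeStab.2 (stab_gen_mem m.2 hb)
  · have hge := model.card_ge (Subgroup.closure {x | ∃ b, b < cover.nStab m ∧
      x = model.el (cover.stabW m b)}) (cover.chain m)
      (fun l a hl ha => by
        obtain ⟨b, hb, he⟩ := valid_model.chain_mem m l a m.2 hl ha
        rw [he]
        exact Subgroup.subset_closure ⟨b, hb, rfl⟩)
      (fun l a => valid_model.chain_gen m l a m.2) (fun l j => valid_model.chain_pt m l j m.2)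
    have h1 := valid_model.idx_eq m m.2
    have h2 := nodeStab_card h m
    refine le_trans (le_of_eq ?_) hge
    have hpos : 0 < cover.idx m := by
      refine Nat.pos_of_ne_zero fun h0 => ?_
      rw [h0, Nat.mul_zero] at h2
      exact absurd h2 (by norm_num)
    refine Nat.eq_of_mul_eq_mul_right hpos ?_
    rw [h2, Nat.mul_comm]
    exact h1.symm

/-- An element of seventh power one lies in a normal subgroup of index prime to seven. -/
theorem seven_mem {Q : Type*} [Group Q] [Finite Q] (S N : Subgroup Q) (hNS : N ≤ S)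
    (hn : ∀ s ∈ S, ∀ x ∈ N, s * x * s⁻¹ ∈ N) {c k : Nat} (hk : Nat.card S = c * k)
    (hc : Nat.card N = c) (hcop : Nat.Coprime 7 k) {z : Q} (hz : z ∈ S) (h7 : z ^ 7 = 1) : z ∈ N := by
  haveI : (N.subgroupOf S).Normal :=
    ⟨fun x hx s => Subgroup.mem_subgroupOf.2 (hn s s.2 x (Subgroup.mem_subgroupOf.1 hx))⟩
  have hcard : Nat.card (S ⧸ N.subgroupOf S) = k := by
    have h := (N.subgroupOf S).card_mul_index
    rw [Nat.card_congr (Subgroup.subgroupOfEquivOfLe hNS).toEquiv, hc, hk,
      Subgroup.index_eq_card] at h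
    exact Nat.eq_of_mul_eq_mul_left (hc ▸ Nat.card_pos) h
  let w : S ⧸ N.subgroupOf S := QuotientGroup.mk (⟨z, hz⟩ : S)
  have h1 : orderOf w ∣ 7 := orderOf_dvd_of_pow_eq_one (by
    show (QuotientGroup.mk ((⟨z, hz⟩ : S) ^ 7) : S ⧸ N.subgroupOf S) = 1
    rw [show (⟨z, hz⟩ : S) ^ 7 = 1 from Subtype.ext h7]
    rfl)
  have h2 : orderOf w ∣ k := hcard ▸ orderOf_dvd_natCard w
  have hw : w = 1 :=
    orderOf_eq_one_iff.1 (Nat.eq_one_of_dvd_one (hcop ▸ Nat.dvd_gcd h1 h2))
  exact Subgroup.mem_subgroupOf.1 ((QuotientGroup.eq_one_iff _).1 hw)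

/-- Conjugation by a generated element preserves a subgroup preserved by the generators. -/
theorem conj_closure {Q : Type*} [Group Q] [Finite Q] (T : Set Q) (N : Subgroup Q)
    (h : ∀ t ∈ T, ∀ x ∈ N, t * x * t⁻¹ ∈ N) :
    ∀ s ∈ Subgroup.closure T, ∀ x ∈ N, s * x * s⁻¹ ∈ N := by
  intro s hs
  induction hs using Subgroup.closure_induction with
  | mem t ht => exact h t ht
  | one => intro x hx; simpa using hx
  | mul a b _ _ ha hb =>
    intro x hx
    rw [show a * b * x * (a * b)⁻¹ = a * (b * x * b⁻¹) * a⁻¹ by group]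
    exact ha _ (hb x hx)
  | inv a _ ha =>
    intro x hx
    have hinj : Function.Injective fun y : N => (⟨a * y * a⁻¹, ha y y.2⟩ : N) :=
      fun y y' e => Subtype.ext (mul_left_cancel (mul_right_cancel (congrArg Subtype.val e)))
    obtain ⟨y, hy⟩ := (Finite.injective_iff_surjective.1 hinj) ⟨x, hx⟩
    have e : a * (y : Q) * a⁻¹ = x := congrArg Subtype.val hy
    rw [← e, show a⁻¹ * (a * (y : Q) * a⁻¹) * a⁻¹⁻¹ = y by group]
    exact y.2

/-- The action of a generator of the stabiliser of node six on the codes. -/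
noncomputable def genVal (b v : Nat) : Nat :=
  app ((sig6.getD b []).getD 0 0) ((sig6.getD b []).getD 1 0) v

theorem gen6_tuples : (List.range 6).all (fun b => okL (gens6.getD b []) &&
    [0, 1].all (fun i => Nat.beq (tupOf (gens6.getD b [] ++ [xS, yS].getD i []))
      (tupOf (pW ((sig6.getD b []).getD i 0) ++ gens6.getD b [])) &&
      Nat.blt ((sig6.getD b []).getD i 0) 49)) = true := by
  decide +kernel

theorem okL_append (l m : List Nat) : okL (l ++ m) = (okL l && okL m) := by
  simp [okL, List.all_append]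

theorem gen6_conj {b : Nat} (hb : b < 6) (v : Nat) :
    ql (gens6.getD b []) * pEl v * (ql (gens6.getD b []))⁻¹ =
      pEl (genVal b v) := by
  have h := List.all_eq_true.1 gen6_tuples b (List.mem_range.2 hb)
  simp only [List.all_cons, List.all_nil, Bool.and_eq_true, Bool.and_true, Nat.blt_eq] at h
  obtain ⟨hok, ⟨h0, hl0⟩, h1, hl1⟩ := h
  refine conj_pEl (MonoidHom.id HGroup) _ ?_ ?_ v
  · show _ * eX * _ = pEl _
    rw [mul_inv_eq_iff_eq_mul, eX, ← ql_pW, ← ql_append, ← ql_append]
    refine ql_eq ?_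
    simp only [okL_append, Bool.and_eq_true]
    exact ⟨⟨⟨hok, xS_ok⟩, pW_ok ⟨_, hl0⟩, hok⟩, h0⟩
  · show _ * eY * _ = pEl _
    rw [mul_inv_eq_iff_eq_mul, eY, ← ql_pW, ← ql_append, ← ql_append]
    refine ql_eq ?_
    simp only [okL_append, Bool.and_eq_true]
    exact ⟨⟨⟨hok, yS_ok⟩, pW_ok ⟨_, hl1⟩, hok⟩, h1⟩

theorem mem_tuples : (okL (memX.flatMap fun b => gens6.getD b []) &&
      okL (memY.flatMap fun b => gens6.getD b []) &&
      Nat.beq (tupOf (memX.flatMap fun b => gens6.getD b [])) (tupOf xS) &&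
      Nat.beq (tupOf (memY.flatMap fun b => gens6.getD b [])) (tupOf yS) &&
      memX.all (fun b => Nat.blt b 6) && memY.all (fun b => Nat.blt b 6)) = true := by
  decide +kernel

theorem ql_flatMap_mem {S : Subgroup HGroup} (f : Nat → List Nat) :
    ∀ l : List Nat, (∀ b ∈ l, ql (f b) ∈ S) → ql (l.flatMap f) ∈ S
  | [], _ => S.one_mem
  | b :: l, h => by
    rw [List.flatMap_cons, ql_append]
    exact S.mul_mem (h b List.mem_cons_self)
      (ql_flatMap_mem f l fun x hx => h x (List.mem_cons_of_mem _ hx))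

theorem eX_stab6 : eX ∈ nodeStab 6 ∧ eY ∈ nodeStab 6 := by
  have h := mem_tuples
  simp only [Bool.and_eq_true, List.all_eq_true, Nat.blt_eq] at h
  obtain ⟨⟨⟨⟨⟨o1, o2⟩, t1⟩, t2⟩, b1⟩, b2⟩ := h
  constructor
  · rw [eX, ← ql_eq (l := memX.flatMap fun b => gens6.getD b []) (m := xS)
      (by simp only [o1, t1, xS_ok, Bool.and_true])]
    exact ql_flatMap_mem _ _ fun b hb => gen6_mem (b1 b hb)
  · rw [eY, ← ql_eq (l := memY.flatMap fun b => gens6.getD b []) (m := yS)
      (by simp only [o2, t2, yS_ok, Bool.and_true])]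
    exact ql_flatMap_mem _ _ fun b hb => gen6_mem (b2 b hb)

theorem stab6_seven (hB : Big) {z : HGroup} (hz : z ∈ nodeStab 6) (h7 : z ^ 7 = 1) : z ∈ Pd := by
  have := hgroup_card.1
  have hc := nodeStab_card hB ⟨6, live_sum.1⟩
  change Nat.card (nodeStab 6) * cover.idx 6 = _ at hc
  rw [idx_facts.1] at hc
  have hk : Nat.card (nodeStab 6) = 49 * 72 :=
    Nat.eq_of_mul_eq_mul_right (show 0 < 179712 by norm_num) (hc.trans (by norm_num))
  refine seven_mem (nodeStab 6) Pd ?_ ?_ (c := 49) (k := 72) hk card_Pd (by norm_num) hz h7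
  · rintro _ ⟨v, -, rfl⟩
    exact mul_mem (pow_mem eX_stab6.1 _) (pow_mem eX_stab6.2 _)
  · have hcl := nodeStab_closure hB ⟨6, live_sum.1⟩
    simp only at hcl
    rw [hcl]
    refine conj_closure _ Pd ?_
    rintro _ ⟨b, hb, rfl⟩ _ ⟨v, -, rfl⟩
    rw [gens6_ok.2] at hb
    rw [gen6_eq hb, gen6_conj hb]
    exact pEl_mem (app_lt _ _ _)

theorem z8_facts : (okL z8W && okL (mem8.flatMap fun b => gens8.getD b []) &&
    mem8.all (fun b => Nat.blt b 3) &&
    Nat.beq (tupOf z8W) (tupOf (mem8.flatMap fun b => gens8.getD b [])) &&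
    Nat.beq (tupOf (List.replicate 7 z8W).flatten) (tupOf []) &&
    !(Nat.beq (tupOf z8W) (tupOf [])) &&
    allFrom (fun p => !(Nat.beq (goL tab.act z8W p) p)) 0 819 &&
    (List.range 3).all (fun b => Nat.beq (tupOf (gens8.getD b [] ++ z8W))
      (tupOf ((List.replicate (exp8.getD b 0) z8W).flatten ++ gens8.getD b [])))) = true := by
  decide +kernel

theorem okL_replicate {l : List Nat} (h : okL l = true) (n : Nat) :
    okL (List.replicate n l).flatten = true := by
  induction n with
  | zero => rfl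
  | succ n ih => rw [List.replicate_succ, List.flatten_cons, okL_append, h, ih]; rfl

theorem stab8_seven (hB : Big) {z : HGroup} (hz : z ∈ nodeStab 8) (h7 : z ^ 7 = 1) :
    z = 1 ∨ fixCnt z = 0 := by
  have := hgroup_card.1
  have h := z8_facts
  simp only [Bool.and_eq_true, List.all_eq_true, Nat.blt_eq, List.mem_range] at h
  obtain ⟨⟨⟨⟨⟨⟨⟨ok, okm⟩, bm⟩, hm⟩, h7'⟩, hne⟩, hfix⟩, hconj⟩ := h
  have hg : ∀ b, b < 3 → ql (gens8.getD b []) ∈ nodeStab 8 := fun b hb => by
    rw [mem_nodeStab, ← gen8_eq hb]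
    exact stab_gen_mem (show 8 < cover.nLive by decide) (gens8_ok.2.symm ▸ hb)
  have hz8 : ql z8W ∈ nodeStab 8 := by
    rw [ql_eq (l := z8W) (m := mem8.flatMap fun b => gens8.getD b [])
      (by simp only [ok, okm, hm, Bool.and_true])]
    exact ql_flatMap_mem _ _ fun b hb => hg b (bm b hb)
  have hpow : ql z8W ^ 7 = 1 := by
    rw [← ql_replicate, ← ql_nil]
    exact ql_eq (by simp only [okL_replicate ok, h7', show okL [] = true from rfl, Bool.and_true])
  have hne' : ql z8W ≠ 1 := by
    intro e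
    have e' := congrArg model.tup (e.trans ql_nil.symm)
    rw [tup_ql _ ok, tup_ql [] rfl] at e'
    rw [e', Nat.beq_refl] at hne
    exact Bool.noConfusion hne
  haveI : Fact (Nat.Prime 7) := ⟨by norm_num⟩
  have hord : Nat.card (Subgroup.zpowers (ql z8W)) = 7 := by
    rw [Nat.card_zpowers, orderOf_eq_prime hpow hne']
  have hc := nodeStab_card hB ⟨8, live_sum.2⟩
  change Nat.card (nodeStab 8) * cover.idx 8 = _ at hc
  rw [idx_facts.2.1] at hc
  have hk : Nat.card (nodeStab 8) = 7 * 18 :=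
    Nat.eq_of_mul_eq_mul_right (show 0 < 5031936 by norm_num) (hc.trans (by norm_num))
  have hzm : z ∈ Subgroup.zpowers (ql z8W) := by
    refine seven_mem (nodeStab 8) _ (Subgroup.zpowers_le.2 hz8) ?_ (c := 7) (k := 18) hk
      hord (by norm_num) hz h7
    have hcl := nodeStab_closure hB ⟨8, live_sum.2⟩
    simp only at hcl
    rw [hcl]
    refine conj_closure _ _ ?_
    rintro _ ⟨b, hb, rfl⟩ _ ⟨n, rfl⟩
    rw [gens8_ok.2] at hb
    rw [gen8_eq hb]
    show ql (gens8.getD b []) * ql z8W ^ n * (ql (gens8.getD b []))⁻¹ ∈ _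
    rw [← conj_zpow]
    refine zpow_mem ?_ n
    have e : ql (gens8.getD b []) * ql z8W = ql z8W ^ exp8.getD b 0 * ql (gens8.getD b []) := by
      rw [← ql_replicate, ← ql_append, ← ql_append]
      refine ql_eq ?_
      have hok := List.all_eq_true.1 gens8_ok.1 b (List.mem_range.2 hb)
      simp only [Bool.and_eq_true] at hok
      simp only [okL_append, okL_replicate ok, ok, hok.1.2, hconj b hb, Bool.and_true]
    rw [e, mul_inv_cancel_right]
    exact pow_mem (Subgroup.mem_zpowers _) _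
  by_cases hz1 : z = 1
  · exact Or.inl hz1
  refine Or.inr (Nat.card_eq_zero.2 (Or.inl ⟨fun p => ?_⟩))
  have hgen : ql z8W ∈ Subgroup.zpowers z := by
    have e : Subgroup.zpowers z = Subgroup.zpowers (ql z8W) :=
      Subgroup.eq_of_le_of_card_ge (Subgroup.zpowers_le.2 hzm)
        (by rw [hord, Nat.card_zpowers, orderOf_eq_prime h7 hz1])
    rw [e]
    exact Subgroup.mem_zpowers _
  obtain ⟨n, hn⟩ := mem_powers_iff_mem_zpowers.2 hgen
  have hfixn : ∀ n : Nat, img (z ^ n) p.1 = p.1 := fun n => by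
    induction n with
    | zero => rw [pow_zero, img_one]
    | succ n ih => rw [pow_succ, img_mul, ih, p.2]
  have e := hfixn n
  rw [show z ^ n = ql z8W from hn] at e
  have hcontra := allFrom_all hfix p.1.2
  rw [← img_ql z8W ok p.1, e, Nat.beq_refl] at hcontra
  exact Bool.noConfusion hcontra

theorem fixCnt_one : fixCnt 1 = 819 := by
  rw [fixCnt, Nat.card_congr (Equiv.subtypeUnivEquiv fun p => img_one p), Nat.card_fin]

theorem node_shape : cover.live 6 = 6 ∧ steps.nNode = 11 ∧
    steps.nodeSrc 6 = 4 ∧ steps.nodeSrc 4 = 1 ∧ steps.nodeSrc 1 = 0 ∧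
    steps.nodeT 6 = 1 ∧ steps.nodeT 4 = 1 ∧ steps.nodeT 1 = 1 ∧
    (tab.okWord (steps.nodeW 1) && okL l1 && Nat.beq (tab.app tab.base (steps.nodeW 1)) (tupOf l1)) = true ∧
    (tab.okWord (steps.nodeW 4) && okL l4 && Nat.beq (tab.app tab.base (steps.nodeW 4)) (tupOf l4)) = true ∧
    (tab.okWord (steps.nodeW 6) && okL l6 && Nat.beq (tab.app tab.base (steps.nodeW 6)) (tupOf l6)) = true := by
  decide +kernel

theorem repG_six : repG 6 = rep6 := by
  obtain ⟨hl, hn, s6, s4, s1, t6, t4, t1, w1, w4, w6⟩ := node_shape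
  have hsrc : ∀ j, 1 ≤ j → j < steps.nNode → steps.nodeSrc j < j := node_src
  rw [repG, hl, Steps.rep_step (D := steps) hsrc (by norm_num) (by omega), s6, t6,
    Steps.rep_step (D := steps) hsrc (by norm_num) (by omega), s4, t4,
    Steps.rep_step (D := steps) hsrc (by norm_num) (by omega), s1, t1, Steps.rep_zero,
    model.el_val iota, model.el_val iota, model.el_val iota, el_eq_ql w1, el_eq_ql w4, el_eq_ql w6,
    rep6, one_mul]
  simp [gT, mul_assoc]

theorem app_swap : (List.range 49).all (fun v => Nat.beq v 0 ||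
    ((inA (app nX nY v) == !(inA v)) && !(Nat.beq (app nX nY v) 0))) = true := by
  decide +kernel

theorem swap_spec {v : Nat} (hv : v < 49) (h0 : v ≠ 0) :
    inA (app nX nY v) = !(inA v) ∧ app nX nY v ≠ 0 := by
  have h := List.all_eq_true.1 app_swap v (List.mem_range.2 hv)
  rw [Bool.or_eq_true] at h
  rcases h with h | h
  · exact absurd (Nat.eq_of_beq_eq_true h) h0
  rw [Bool.and_eq_true, beq_iff_eq, Bool.not_eq_true'] at h
  exact ⟨h.1, fun e => by rw [e, Nat.beq_refl] at h; exact Bool.noConfusion h.2⟩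

/-- An element of the group conjugating one element of order seven with 21 fixed points into
another lies in the subgroup. -/
theorem range_of_conj (hB : Big) (g : GTh) {z z' : HGroup} (h7 : z ^ 7 = 1) (hA : fixCnt z = 21)
    (hA' : fixCnt z' = 21) (e : g⁻¹ * iota z * g = iota z') : g ∈ iota.range := by
  have := hgroup_card.1
  obtain ⟨hN, hi, hH, hinj⟩ := exact_of_big hB
  obtain ⟨pt, label, -, hreach, -, -, hpt0, hpt⟩ := orbits_of_big hB
  obtain ⟨q, hq⟩ := hreach (QuotientGroup.mk g)
  generalize label (QuotientGroup.mk g) = m at hq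
  have hq' : (QuotientGroup.mk g : GTh ⧸ iota.range) = QuotientGroup.mk (iota q * (repG m.val)⁻¹) := by
    rw [hq, hpt m]; rfl
  obtain ⟨k, hk⟩ := QuotientGroup.eq.1 hq'.symm
  have hg : g = iota q * (repG m.val)⁻¹ * iota k := by rw [hk]; group
  by_cases hm0 : (m : Nat) = 0
  · have : repG m.val = 1 := by
      rw [repG, hm0, show cover.live 0 = 0 from valid_model.live_zero.2, Steps.rep_zero]
    rw [hg, this, inv_one, mul_one]
    exact mul_mem ⟨q, rfl⟩ ⟨k, rfl⟩
  exfalso
  -- the conjugate in the stabiliser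
  have hkey : repG m.val * iota (q⁻¹ * z * q) * (repG m.val)⁻¹ = iota (k * z' * k⁻¹) := by
    rw [map_mul, map_mul, map_inv, map_mul, map_mul, map_inv, ← e, hg]
    group
  have hmem : q⁻¹ * z * q ∈ nodeStab m.val := mem_nodeStab.2 ⟨_, hkey.symm⟩
  have h71 : (q⁻¹ * z * q) ^ 7 = 1 := by
    rw [show q⁻¹ * z * q = q⁻¹ * z * q⁻¹⁻¹ by rw [inv_inv], conj_pow, h7]
    group
  have hA1 : fixCnt (q⁻¹ * z * q) = 21 := by
    rw [show q⁻¹ * z * q = q⁻¹ * z * q⁻¹⁻¹ by rw [inv_inv], fixCnt_conj, hA]
  have hne : q⁻¹ * z * q ≠ 1 := by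
    intro h1; rw [h1, fixCnt_one] at hA1; norm_num at hA1
  haveI : Fact (Nat.Prime 7) := ⟨by norm_num⟩
  have hdvd : 7 ∣ Nat.card (nodeStab m.val) := by
    have := orderOf_dvd_natCard (⟨_, hmem⟩ : nodeStab m.val)
    rwa [← Subgroup.orderOf_coe, orderOf_eq_prime h71 hne] at this
  have hm : (m : Nat) = 6 ∨ (m : Nat) = 8 := by
    have h := List.all_eq_true.1 idx_facts.2.2.1 m.val
      (List.mem_range.2 (lt_of_lt_of_le m.2 (le_of_eq rfl)))
    simp only [Bool.or_eq_true, Nat.beq_eq, Bool.not_eq_true'] at h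
    rcases h with ((h | h) | h) | h
    · exact absurd h hm0
    · exact Or.inl h
    · exact Or.inr h
    · exfalso
      have hc := nodeStab_card hB m
      have hpos : 0 < cover.idx m.val := Nat.pos_of_ne_zero fun h0 => by
        rw [h0, Nat.mul_zero] at hc; exact absurd hc (by norm_num)
      rw [← hc, Nat.mul_div_cancel _ hpos] at h
      rw [Nat.mod_eq_zero_of_dvd hdvd, Nat.beq_refl] at h
      exact Bool.noConfusion h
  rcases hm with hm | hm <;> rw [hm] at hmem hkey
  · obtain ⟨v, hv, hz1⟩ := stab6_seven hB hmem h71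
    have hv0 : v ≠ 0 := fun h0 => hne (by rw [hz1, h0, pEl_zero])
    rw [hz1, repG_six, rep6_pEl] at hkey
    have hfix := congrArg fixCnt (hinj hkey)
    rw [fixCnt_conj, fixCnt_conj, hA'] at hfix
    obtain ⟨hs, hs0⟩ := swap_spec hv hv0
    rw [fixCnt_pEl (app_lt _ _ _) hs0, hs] at hfix
    rw [hz1, fixCnt_pEl hv hv0] at hA1
    cases h : inA v <;> rw [h] at hA1 hfix <;> simp at hA1 hfix
  · rcases stab8_seven hB hmem h71 with h | h
    · exact hne h
    · rw [h] at hA1; norm_num at hA1

/-- The centraliser of an element of order seven with 21 fixed points lies in the subgroup. -/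
theorem range_of_comm (hB : Big) {g : GTh} {z : HGroup} (h7 : z ^ 7 = 1) (hA : fixCnt z = 21)
    (hc : g * iota z = iota z * g) : g ∈ iota.range :=
  range_of_conj hB g h7 hA hA (by rw [mul_assoc, ← hc, inv_mul_cancel_left])

end Cfsg.Agent.DCoset.Th.Aut
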