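import Cfsg.Agent.DCoset.Th.Aut.Cent
import Cfsg.Agent.DCoset.Th.Aut.Data2
import Cfsg.Agent.DCoset.Th.Aut.Node

/-!
# Data for the last steps: two involutions generating, and the action of a normalising generator
-/

set_option autoImplicit false
set_option maxRecDepth 100000

namespace Cfsg.Agent.DCoset.Th.Aut

open Cfsg.Agent.DCoset Cfsg.Agent.DCoset.Th Cfsg.Agent.CosetCert

theorem vW_ok : (okL vW && tab.okWord (ptWS.get (getL fPts vIx)) &&
    Nat.beq (tab.app tab.base (ptWS.get (getL fPts vIx))) (tupOf vW) &&
    Nat.beq (tupOf ((List.replicate 3 (yS ++ vW)).flatten)) (tupOf []) &&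
    okL ((List.replicate 3 (yS ++ vW)).flatten) &&
    !(Nat.beq (tupOf vW) (tupOf []))) = true := by decide +kernel

theorem eV_eq : eV = ql vW := by
  have h := vW_ok
  simp only [Bool.and_eq_true] at h
  rw [eV, cnj, (fp_spec yI_check.2).1]
  exact el_eq_ql (by simp only [h.1.1.1.1.1, h.1.1.1.1.2, h.1.1.1.2, Bool.and_true])

theorem eV_ne : eV ≠ 1 := by
  intro e
  have h := vW_ok
  simp only [Bool.and_eq_true] at h
  rw [eV_eq] at e
  have e' := congrArg model.tup (e.trans ql_nil.symm)
  rw [tup_ql _ h.1.1.1.1.1, tup_ql [] rfl] at e'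
  rw [e', Nat.beq_refl] at h
  exact Bool.noConfusion h.2

theorem eV_three : (eY * eV) ^ 3 = 1 := by
  have h := vW_ok
  simp only [Bool.and_eq_true] at h
  rw [eV_eq, eY, ← ql_append, ← ql_replicate, ← ql_nil]
  exact ql_eq (by simp only [h.1.2, h.1.1.2, show okL [] = true from rfl, Bool.and_true])

/-- The normalising generator. -/
noncomputable def eG : HGroup := ql (gens6.getD gIx [])

/-- The point of the conjugate of `v`. -/
noncomputable def fp' : Fin 819 := img eG (fp vIx)

theorem g_check : gIx < 6 ∧ genVal gIx wCode = 7 ∧ genVal gIx uCode = 1 ∧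
    wCode < 49 ∧ uCode < 49 ∧
    allFrom (fun k => Nat.beq
      (addV (7 * ((splitU.getD k []).getD 0 0))
        (7 * ((splitU.getD k []).getD 1 0 * (wCode / 7) % 7) +
          (splitU.getD k []).getD 1 0 * (wCode % 7) % 7))
      (7 * (k * (uCode / 7) % 7) + k * (uCode % 7) % 7)) 0 7 = true := by decide +kernel

theorem eG_conj (v : Nat) : eG * pEl v * eG⁻¹ = pEl (genVal gIx v) := gen6_conj g_check.1 v

theorem split_u {k : Nat} (hk : k < 7) :
    pEl uCode ^ k = eX ^ ((splitU.getD k []).getD 0 0) * pEl wCode ^ ((splitU.getD k []).getD 1 0) := by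
  have h := allFrom_all g_check.2.2.2.2.2 hk
  rw [pEl_pow, pEl_pow, show eX ^ ((splitU.getD k []).getD 0 0) =
    pEl (7 * ((splitU.getD k []).getD 0 0)) by simp [pEl], pEl_mul, Nat.eq_of_beq_eq_true h]

theorem fixed_gens_check : allFrom (fun v => Bool.rec (motive := fun _ => Bool) true (Nat.beq v 0)
    ((List.range 6).all fun b => Nat.beq (genVal b v) v)) 0 49 = true := by decide +kernel

theorem seqD_start : (okL (gens6.getD gIx []) && Nat.beq (getP seqD 0) (getL fPts vIx) &&
    Nat.beq (getP seqD 1) (goL tab.act (gens6.getD gIx []) (getL fPts vIx))) = true := by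
  decide +kernel

theorem seqD_step : allFrom (fun k => force (getP parD k) fun r => force (getP mvD k) fun m =>
    gate (Nat.blt r k) (gate (Nat.blt m (Nat.add k 2))
      (Nat.beq (Bool.rec (motive := fun _ => Nat)
          (Bool.rec (motive := fun _ => Nat)
            (actW tab.act (getP seqD r) (ptWS.get (getP seqD (Nat.sub m 2))))
            (getP yPerm (getP seqD r)) (Nat.beq m 1))
          (getP xPerm (getP seqD r)) (Nat.beq m 0))
        (getP seqD k)))) 2 817 = true := by
  decide +kernel

theorem seqD_lt : allFrom (fun k => Nat.blt (getP seqD k) 819) 0 819 = true ∧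
    coverC seqD posD = true := by decide +kernel

/-- A set of points containing two seeds and closed under `x`, `y` and the conjugates attached to
its own points contains every point. -/
theorem points_of_seeds (F : Fin 819 → Prop) (h0 : F (fp vIx)) (h1 : F fp')
    (hx : ∀ p, F p → F (img eX p)) (hy : ∀ p, F p → F (img eY p))
    (hm : ∀ m r, F m → F r → F (img (cnj m) r)) (p : Fin 819) : F p := by
  have hs := seqD_start
  simp only [Bool.and_eq_true] at hs
  obtain ⟨⟨hok, hs0⟩, hs1⟩ := hs
  have key : ∀ k, k < 819 → ∀ p : Fin 819, p.val = getP seqD k → F p := by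
    intro k
    induction k using Nat.strong_induction_on with
    | _ k ih =>
      intro hk p hp
      by_cases hk0 : k = 0
      · subst hk0
        rw [show p = fp vIx from Fin.ext (by
          rw [hp, Nat.eq_of_beq_eq_true hs0, (fp_spec yI_check.2).1])]
        exact h0
      by_cases hk1 : k = 1
      · subst hk1
        rw [show p = fp' from Fin.ext (by
          rw [hp, Nat.eq_of_beq_eq_true hs1, fp', eG, img_ql _ hok, (fp_spec yI_check.2).1])]
        exact h1
      have h := (allFrom_iff _ _ _).1 seqD_step k (by omega) (by omega)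
      simp only [force_eq, gate_eq, Bool.and_eq_true] at h
      obtain ⟨hr, hmb, he⟩ := h
      have hr : getP parD k < k := Nat.ble_eq.mp hr
      have hmb : getP mvD k < k + 2 := Nat.ble_eq.mp hmb
      have hlr := Nat.ble_eq.mp (allFrom_all seqD_lt.1 (show getP parD k < 819 by omega))
      have hFr : F ⟨_, hlr⟩ := ih _ hr (by omega) _ rfl
      cases hm0 : Nat.beq (getP mvD k) 0 <;> rw [hm0] at he
      · cases hm1 : Nat.beq (getP mvD k) 1 <;> rw [hm1] at he
        · have n0 : getP mvD k ≠ 0 := fun e => by rw [e] at hm0; exact Bool.noConfusion hm0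
          have n1 : getP mvD k ≠ 1 := fun e => by rw [e] at hm1; exact Bool.noConfusion hm1
          have hlm := Nat.ble_eq.mp
            (allFrom_all seqD_lt.1 (show getP mvD k - 2 < 819 by omega))
          rw [show p = img (cnj ⟨_, hlm⟩) ⟨_, hlr⟩ from Fin.ext (by
            rw [img_cnj_val]; exact hp.trans (Nat.eq_of_beq_eq_true he).symm)]
          exact hm _ _ (ih _ (by omega) (by omega) _ rfl) hFr
        · rw [show p = img eY ⟨_, hlr⟩ from Fin.ext (by
            rw [← (perm_spec _).2]; exact hp.trans (Nat.eq_of_beq_eq_true he).symm)]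
          exact hy _ hFr
      · rw [show p = img eX ⟨_, hlr⟩ from Fin.ext (by
          rw [← (perm_spec _).1]; exact hp.trans (Nat.eq_of_beq_eq_true he).symm)]
        exact hx _ hFr
  exact cover_spec seqD_lt.2 (fun n => ∀ p : Fin 819, p.val = n → F p) key p.val p.2 p rfl

theorem seqT_step : allFrom (fun k => force (getP parT k) fun r => force (getP mvT k) fun g =>
    gate (Nat.blt r k) (gate (Nat.blt g 8) (gate (Bool.not (Nat.beq g 6))
      (gate (Nat.blt (getP seqT r) 819)
        (Nat.beq (tab.act g (getP seqT r)) (getP seqT k)))))) 1 818 = true ∧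
    getP seqT 0 = 0 ∧ coverC seqT posT = true := by decide +kernel

/-- An element commuting with `a, b, c, d, e, s` and `s⁻¹` is trivial. -/
theorem eq_one_of_comm {q : HGroup}
    (h : ∀ g, g < 8 → g ≠ 6 → q * ql [g] = ql [g] * q) : q = 1 := by
  obtain ⟨hstep, h0, hcov⟩ := seqT_step
  have key : ∀ k, k < 819 → ∀ p : Fin 819, p.val = getP seqT k → img q p = p := by
    intro k
    induction k using Nat.strong_induction_on with
    | _ k ih =>
      intro hk p hp
      by_cases hk0 : k = 0
      · subst hk0
        rw [h0] at hp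
        rw [show p = p0 from Fin.ext hp, fix_iff_comm, cnj_zero]
        exact h 0 (by norm_num) (by norm_num)
      have e := (allFrom_iff _ _ _).1 hstep k (by omega) (by omega)
      simp only [force_eq, gate_eq, Bool.and_eq_true, Bool.not_eq_true'] at e
      obtain ⟨hr, hg, hg6, hlr, he⟩ := e
      have hr : getP parT k < k := Nat.ble_eq.mp hr
      have hg : getP mvT k < 8 := Nat.ble_eq.mp hg
      have hg6 : getP mvT k ≠ 6 := fun e => by rw [e] at hg6; exact Bool.noConfusion hg6
      have hlr := Nat.ble_eq.mp hlr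
      have hp' : p = img (ql [getP mvT k]) ⟨_, hlr⟩ := Fin.ext (by
        rw [img_ql _ (by simp [okL]; omega), goL_eq]
        exact hp.trans (Nat.eq_of_beq_eq_true he).symm)
      rw [hp', ← img_mul, ← h _ hg hg6, img_mul, ih _ hr (by omega) _ rfl]
  exact eq_one_of_fix_all fun p =>
    cover_spec hcov (fun n => ∀ p : Fin 819, p.val = n → img q p = p) key p.val p.2 p rfl

theorem xW_ok : (okL xW && Nat.beq (tupOf xW) (tupOf xS) &&
    xW.all fun g => Nat.blt g 8 && Bool.not (Nat.beq g 6)) = true := by decide +kernel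

theorem t_relations : ((List.range 5).all fun g =>
    okL [g, 6] && okL [6, g] && Nat.beq (tupOf [g, 6]) (tupOf [6, g])) = true ∧
    (okL [8, 5, 6] && okL [5, 5] && Nat.beq (tupOf [8, 5, 6]) (tupOf [5, 5])) = true ∧
    (okL [8, 6] && okL [7, 5] && Nat.beq (tupOf [8, 6]) (tupOf []) &&
      Nat.beq (tupOf [7, 5]) (tupOf [])) = true := by decide +kernel

end Cfsg.Agent.DCoset.Th.Aut
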