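import Cfsg.Agent.DCoset.Th.Simple

/-!
# The image of `<a, b, c, d, e, s, t>` is a maximal subgroup

The orbit of the base coset under a subgroup containing it is a union of suborbits and its length
divides the index.
-/

set_option autoImplicit false
set_option maxRecDepth 100000

namespace Cfsg.Agent.DCoset.Th.Aut

open Cfsg.Agent.DCoset Cfsg.Agent.DCoset.Th Cfsg.Agent.CosetCert

theorem eq_top_of_range_lt (h : Big) (M : Subgroup GTh) (hM : iota.range ≤ M)
    (hne : M ≠ iota.range) : M = ⊤ := by
  classical
  obtain ⟨-, hi, -, -⟩ := exact_of_big h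
  obtain ⟨pt, label, -, hreach, hcard, -, hpt0, -⟩ := orbits_of_big h
  have := th_finite.1
  let S : Set (GTh ⧸ iota.range) := Set.range fun m : M => (QuotientGroup.mk (m : GTh))
  have hSinv : ∀ q, ∀ z ∈ S, iota q • z ∈ S := by
    rintro q _ ⟨m, rfl⟩
    exact ⟨⟨iota q * m, M.mul_mem (hM ⟨q, rfl⟩) m.2⟩, rfl⟩
  have hfib : ∀ z, z ∈ S ↔ pt (label z) ∈ S := by
    intro z
    obtain ⟨q, hq⟩ := hreach z
    constructor
    · intro hz
      have := hSinv q⁻¹ _ hz
      rwa [hq, map_inv, inv_smul_smul] at this
    · intro hz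
      rw [hq]
      exact hSinv q _ hz
  have h0 : pt ⟨0, by decide⟩ ∈ S := by
    rw [hpt0 _ rfl]
    exact ⟨1, rfl⟩
  have hrel : Nat.card S = iota.range.relIndex M := by
    rw [Subgroup.relIndex, Subgroup.index_eq_card]
    let f : M ⧸ iota.range.subgroupOf M → S := fun z => Quotient.liftOn' z
      (fun m => ⟨QuotientGroup.mk (m : GTh), m, rfl⟩) fun x y hxy => by
        rw [QuotientGroup.leftRel_apply, Subgroup.mem_subgroupOf] at hxy
        exact Subtype.ext (QuotientGroup.eq.2 hxy)
    refine (Nat.card_congr (Equiv.ofBijective f ⟨fun a b hab => ?_, ?_⟩)).symm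
    · induction a using QuotientGroup.induction_on with
      | _ x =>
        induction b using QuotientGroup.induction_on with
        | _ y =>
          rw [QuotientGroup.eq, Subgroup.mem_subgroupOf]
          exact QuotientGroup.eq.1 (congrArg Subtype.val hab)
    · rintro ⟨_, m, rfl⟩
      exact ⟨QuotientGroup.mk m, rfl⟩
  have hdvd : Nat.card S ∣ 143127000 := by
    rw [hrel, ← hi, ← Subgroup.relIndex_mul_index hM]
    exact dvd_mul_right _ _
  have hsum : Nat.card S = ∑ l : Fin cover.nLive, if pt l ∈ S then cover.idx l else 0 := by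
    rw [Nat.card_congr ((Equiv.subtypeEquivRight hfib).trans
      (Equiv.sigmaSubtypeFiberEquivSubtype label (p := fun z => pt (label z) ∈ S)
        (q := fun l => pt l ∈ S) fun z => Iff.rfl).symm), Nat.card_sigma]
    simp_rw [hcard]
    exact (Finset.sum_subtype (Finset.univ.filter fun l => pt l ∈ S) (by simp)
      fun l => cover.idx l).symm.trans (Finset.sum_filter _ _)
  obtain ⟨e, he⟩ := bits_surj fun i => decide (pt ⟨i.val + 1, Nat.succ_lt_succ i.2⟩ ∈ S)
  have hval : Nat.card S =
      1 + (((List.range 10).filter fun i => e.val.testBit i).map fun i => cover.idx (i + 1)).sum := by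
    rw [hsum]
    refine (Fin.sum_univ_succ (n := 10) _).trans ?_
    refine congrArg₂ (· + ·) ((if_pos h0).trans idx_zero) ?_
    rw [← List.map_coe_finRange_eq_range, List.filter_map, List.map_map,
      ← List.sum_toFinset _ ((List.nodup_finRange 10).filter _)]
    rw [← Finset.sum_filter]
    refine Finset.sum_congr ?_ fun i _ => rfl
    ext i
    simp [he i, Fin.succ]
    exact Iff.rfl
  rcases sum_cases e with h1 | h1 | h1
  · refine absurd ?_ hne
    rw [hval.trans h1] at hrel
    exact le_antisymm (Subgroup.relIndex_eq_one.1 hrel.symm) hM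
  · rw [hval.trans h1] at hrel
    refine Subgroup.index_eq_one.1 ?_
    have hm := Subgroup.relIndex_mul_index hM
    rw [← hrel, hi] at hm
    omega
  · exact absurd (hval ▸ hdvd) h1

end Cfsg.Agent.DCoset.Th.Aut
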