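import Cfsg.Agent.DCoset.Th.Aut.Weyl
import Cfsg.Agent.DCoset.Th.Aut.Gen
import Cfsg.Agent.DCoset.Th.Aut.Maximal

/-!
# Every automorphism of the presented Thompson group is inner

An automorphism is corrected by inner ones until it fixes `P` pointwise and two involutions whose
closure gives all conjugates of `a`; it then fixes the subgroup `<a, b, c, d, e, s, t>` and a
normalising element outside it.
-/

set_option autoImplicit false
set_option maxRecDepth 100000

namespace Cfsg.Agent.DCoset.Th.Aut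

open Cfsg.Agent.DCoset Cfsg.Agent.DCoset.Th Cfsg.Agent.CosetCert
open scoped Pointwise

/-- Inner automorphisms. -/
abbrev inner : Subgroup (MulAut GTh) := (MulAut.conj : GTh →* MulAut GTh).range

theorem fix_pEl (δ : MulAut GTh) (hx : δ (iota eX) = iota eX) (hy : δ (iota eY) = iota eY) (v : Nat) :
    δ (iota (pEl v)) = iota (pEl v) := by
  rw [show pEl v = eX ^ (v / 7) * eY ^ (v % 7) from rfl, map_mul iota, map_pow iota, map_pow iota,
    map_mul δ, map_pow δ, map_pow δ, hx, hy]

theorem conj_fixed (δ : MulAut GTh) (a z : GTh) (h : δ a = a) (hc : z * a = a * z) :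
    (MulAut.conj z * δ) a = a := by
  rw [MulAut.mul_apply, h, MulAut.conj_apply, hc, mul_inv_cancel_right]

/-- An automorphism fixing `x` and `y` maps `v` to a conjugate of it by a power of `y`. -/
theorem move_v (hB : Big) (δ : MulAut GTh) (hx : δ (iota eX) = iota eX)
    (hy : δ (iota eY) = iota eY) : ∃ i < 7, δ (iota eV) = iota (eY ^ i * eV * (eY ^ i)⁻¹) := by
  obtain ⟨-, -, -, hinj⟩ := exact_of_big hB
  have hc : δ (iota eV) * iota eX = iota eX * δ (iota eV) := by
    conv_lhs => rw [← hx, ← map_mul δ, ← map_mul iota, eV_comm]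
    rw [map_mul iota, map_mul δ, hx]
  obtain ⟨z, hz⟩ := range_of_comm hB (z := eX) eX_seven fixCnt_eX hc
  have e1 : z * eX = eX * z := hinj (by rw [map_mul, map_mul, hz, hc])
  have e2 : z * z = 1 := hinj (by
    rw [map_mul iota, hz, ← map_mul δ, ← map_mul iota, eV_sq, map_one iota, map_one δ])
  have e3 : z ≠ 1 := fun e => eV_ne (hinj (δ.injective (by
    rw [← hz, e, map_one iota, map_one δ])))
  have e4 : (eY * z) ^ 3 = 1 := hinj (by
    rw [map_pow iota, map_mul iota, hz, ← hy, ← map_mul δ, ← map_mul iota, ← map_pow δ,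
      ← map_pow iota, eV_three, map_one iota, map_one δ])
  obtain ⟨i, hi, rfl⟩ := cent_inv e1 e2 e3 e4
  exact ⟨i, hi, hz.symm⟩

theorem factorization_seven :
    (90745943887872000 : Nat).factorization 7 = 2 := by
  rw [show (90745943887872000 : Nat) = 7 ^ 2 * 1851958038528000 by norm_num,
    Nat.factorization_mul (by norm_num) (by norm_num), Finsupp.add_apply,
    Nat.factorization_pow_self (by norm_num),
    Nat.factorization_eq_zero_of_not_dvd (by norm_num)]

/-- An automorphism can be corrected to preserve `P`. -/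
theorem exists_preserve (hB : Big) (α : MulAut GTh) :
    ∃ g : GTh, ∀ v < 49, ∃ m < 49, (MulAut.conj g * α) (iota (pEl v)) = iota (pEl m) := by
  classical
  obtain ⟨hN, -, -, hinj⟩ := exact_of_big hB
  have := th_finite.1
  haveI : Fact (Nat.Prime 7) := ⟨by norm_num⟩
  let P₁ : Subgroup GTh := Pd.map iota
  let P₂ : Subgroup GTh := P₁.map α.toMonoidHom
  have hc1 : Nat.card P₁ = 49 := (Subgroup.card_map_of_injective hinj).trans card_Pd
  have hc2 : Nat.card P₂ = 49 := (Subgroup.card_map_of_injective α.injective).trans hc1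
  have hs : ∀ P : Subgroup GTh, Nat.card P = 49 →
      Nat.card P = 7 ^ (Nat.card GTh).factorization 7 := fun P h => by
    rw [hN, factorization_seven, h]; norm_num
  obtain ⟨g, hg⟩ := MulAction.exists_smul_eq GTh (Sylow.ofCard P₂ (hs _ hc2))
    (Sylow.ofCard P₁ (hs _ hc1))
  refine ⟨g, fun v hv => ?_⟩
  have hmem : α (iota (pEl v)) ∈ P₂ := ⟨_, ⟨_, pEl_mem hv, rfl⟩, rfl⟩
  have hmem' : g * α (iota (pEl v)) * g⁻¹ ∈ P₁ := by
    have e := congrArg (fun S : Sylow 7 GTh => (S : Subgroup GTh)) hg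
    simp only [Sylow.coe_subgroup_smul, Sylow.coe_ofCard] at e
    rw [← e]
    exact Subgroup.smul_mem_pointwise_smul _ (MulAut.conj g) P₂ hmem
  obtain ⟨_, ⟨m, hm, rfl⟩, he⟩ := hmem'
  exact ⟨m, hm, he.symm⟩

/-- An automorphism fixing `x`, `y` and two involutions is the identity. -/
theorem rigid (hB : Big) (δ : MulAut GTh) (hx : δ (iota eX) = iota eX) (hy : δ (iota eY) = iota eY)
    (hv : δ (iota eV) = iota eV) (hv' : δ (iota (cnj fp')) = iota (cnj fp')) : δ = 1 := by
  obtain ⟨-, -, -, hinj⟩ := exact_of_big hB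
  let F : Subgroup HGroup :=
    MonoidHom.eqLocus ((δ : GTh ≃* GTh).toMonoidHom.comp iota) iota
  have memF : ∀ q, q ∈ F ↔ δ (iota q) = iota q := fun q => Iff.rfl
  have hxF : eX ∈ F := (memF _).2 hx
  have hyF : eY ∈ F := (memF _).2 hy
  have himg : ∀ q ∈ F, ∀ p, cnj p ∈ F → cnj (img q p) ∈ F := fun q hq p hp => by
    rw [← cnj_conj q p]
    exact mul_mem (mul_mem (inv_mem hq) hp) hq
  have hall : ∀ p, cnj p ∈ F :=
    points_of_seeds (fun p => cnj p ∈ F) ((memF _).2 hv) ((memF _).2 hv') (fun p => himg _ hxF p)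
      (fun p => himg _ hyF p) (fun m r hm hr => himg _ hm r hr)
  have hsix : ∀ g, g < 6 → ql [g] ∈ F := by
    intro g hg
    have h := gen_prod ⟨g, hg⟩
    simp only [Bool.and_eq_true] at h
    obtain ⟨⟨hok, hlt⟩, he⟩ := h
    have key : ∀ (ps : List Nat), (ps.all fun p => Nat.blt p 819) = true → ∀ a : HGroup,
        ∃ b, ps.foldl (fun t p => tab.app t (ptWS.get p)) (model.tup a) = model.tup (a * b) ∧
          b ∈ F := by
      intro ps
      induction ps with
      | nil => intro _ a; exact ⟨1, by simp, F.one_mem⟩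
      | cons p ps ih =>
        intro hall' a
        simp only [List.all_cons, Bool.and_eq_true] at hall'
        have hp := Nat.ble_eq.mp hall'.1
        obtain ⟨b, hb, hbF⟩ := ih hall'.2 (a * model.el (ptWS.get p))
        refine ⟨cnj ⟨p, hp⟩ * b, ?_, mul_mem (hall _) hbF⟩
        rw [List.foldl_cons, tup_app (allFrom_all ptW_ok hp), hb, cnj, mul_assoc]
    obtain ⟨b, hb, hbF⟩ := key _ hlt 1
    rw [show model.tup 1 = tab.base from model.one, Nat.eq_of_beq_eq_true he, one_mul] at hb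
    rwa [show ql [g] = b from model.inj ((tup_ql [g] hok).trans hb)]
  obtain ⟨hcomm, hconj, hinv⟩ := t_relations
  simp only [Bool.and_eq_true] at hinv
  have h86 : ql [8] * ql [6] = 1 := by
    rw [← ql_append, ← ql_nil]
    exact ql_eq (by simp only [hinv.1.1.1, hinv.1.2, show okL [] = true from rfl, Bool.and_true,
      List.singleton_append])
  have h75 : ql [7] * ql [5] = 1 := by
    rw [← ql_append, ← ql_nil]
    exact ql_eq (by simp only [hinv.1.1.2, hinv.2, show okL [] = true from rfl, Bool.and_true,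
      List.singleton_append])
  have hseven : ql [7] ∈ F := by
    rw [eq_inv_of_mul_eq_one_left h75]; exact inv_mem (hsix 5 (by norm_num))
  -- the element by which `t` is moved
  set T : GTh := iota (ql [6]) with hT
  set u : GTh := δ T * T⁻¹ with hu
  have hu5 : ∀ g, g < 6 → u * iota (ql [g]) = iota (ql [g]) * u := by
    intro g hg
    have hfix : δ (iota (ql [g])) = iota (ql [g]) := hsix g hg
    by_cases h5 : g = 5
    · subst h5
      have e : ql [8] * ql [5] * ql [6] = ql [5] * ql [5] := by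
        rw [← ql_append, ← ql_append, ← ql_append]
        exact ql_eq hconj
      rw [eq_inv_of_mul_eq_one_left h86] at e
      have e1 : T⁻¹ * iota (ql [5]) * T = iota (ql [5]) * iota (ql [5]) := by
        rw [hT, ← map_inv, ← map_mul, ← map_mul, ← map_mul, e]
      have e2 : (δ T)⁻¹ * iota (ql [5]) * δ T = iota (ql [5]) * iota (ql [5]) := by
        have := congrArg δ e1
        rwa [map_mul, map_mul, map_inv, map_mul, hfix] at this
      calc u * iota (ql [5]) = δ T * (T⁻¹ * iota (ql [5]) * T) * T⁻¹ := by rw [hu]; group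
        _ = δ T * ((δ T)⁻¹ * iota (ql [5]) * δ T) * T⁻¹ := by rw [e1, e2]
        _ = iota (ql [5]) * u := by rw [hu]; group
    · have hg5 : g < 5 := by omega
      have e : ql [g] * ql [6] = ql [6] * ql [g] := by
        rw [← ql_append, ← ql_append]
        exact ql_eq (List.all_eq_true.1 hcomm g (List.mem_range.2 hg5))
      have e1 : Commute T (iota (ql [g])) :=
        show T * iota (ql [g]) = iota (ql [g]) * T by rw [hT, ← map_mul, ← map_mul, e]
      have e2 : Commute (δ T) (iota (ql [g])) :=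
        show δ T * iota (ql [g]) = iota (ql [g]) * δ T by
          have := congrArg δ e1.eq
          rwa [map_mul, map_mul, hfix] at this
      exact (e2.mul_left e1.inv_left).eq
  have hu8 : ∀ g, g < 8 → g ≠ 6 → u * iota (ql [g]) = iota (ql [g]) * u := by
    intro g hg hg6
    by_cases h : g < 6
    · exact hu5 g h
    rw [show g = 7 by omega, eq_inv_of_mul_eq_one_left h75, map_inv]
    exact (show Commute u _ from hu5 5 (by norm_num)).inv_right.eq
  have hux : u * iota eX = iota eX * u := by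
    have h := xW_ok
    simp only [Bool.and_eq_true, List.all_eq_true, Bool.not_eq_true', Nat.blt_eq] at h
    obtain ⟨⟨hok, he⟩, hl⟩ := h
    rw [eX, ← ql_eq (l := xW) (m := xS) (by simp only [hok, he, xS_ok, Bool.and_true])]
    have : ∀ l : List Nat, (∀ g ∈ l, g < 8 ∧ g ≠ 6) → Commute u (iota (ql l)) := by
      intro l
      induction l with
      | nil => intro _; rw [ql_nil, map_one]; exact Commute.one_right u
      | cons g l ih =>
        intro h
        rw [show g :: l = [g] ++ l from rfl, ql_append, map_mul]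
        exact (show Commute u (iota (ql [g])) from
          hu8 g (h g List.mem_cons_self).1 (h g List.mem_cons_self).2).mul_right
          (ih fun x hx => h x (List.mem_cons_of_mem _ hx))
    exact (this xW fun g hg => ⟨(hl g hg).1, fun e => by
      have := (hl g hg).2; rw [e] at this; exact Bool.noConfusion this⟩).eq
  obtain ⟨q, hq⟩ := range_of_comm hB eX_seven fixCnt_eX hux
  have hq1 : q = 1 := eq_one_of_comm fun g hg hg6 => hinj (by
    rw [map_mul, map_mul, hq]; exact hu8 g hg hg6)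
  have hTfix : δ T = T := mul_inv_eq_one.1 (by rw [← hu, ← hq, hq1, map_one])
  have hF : F = ⊤ := by
    rw [eq_top_iff, ← PresentedGroup.closure_range_of, Subgroup.closure_le]
    rintro _ ⟨b, rfl⟩
    rw [show PresentedGroup.of b = ql [b.val] from (ql_of b.val b.2).symm]
    by_cases hb : b.val < 6
    · exact hsix _ hb
    · rw [show b.val = 6 by omega]; exact hTfix
  have hfix : ∀ q, δ (iota q) = iota q := fun q => (memF q).1 (hF ▸ trivial)
  -- the normalising element
  have hN : ∀ q q', nEl⁻¹ * iota q * nEl = iota q' →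
      δ nEl * nEl⁻¹ * iota q = iota q * (δ nEl * nEl⁻¹) := by
    intro q q' e
    have e2 : (δ nEl)⁻¹ * iota q * δ nEl = iota q' := by
      have := congrArg δ e
      rwa [map_mul, map_mul, map_inv, hfix, hfix] at this
    calc δ nEl * nEl⁻¹ * iota q = δ nEl * (nEl⁻¹ * iota q * nEl) * nEl⁻¹ := by group
      _ = δ nEl * ((δ nEl)⁻¹ * iota q * δ nEl) * nEl⁻¹ := by rw [e, e2]
      _ = iota q * (δ nEl * nEl⁻¹) := by group
  have hmx : δ nEl * nEl⁻¹ * iota eX = iota eX * (δ nEl * nEl⁻¹) :=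
    hN _ (pEl (app nX nY 7)) (by rw [← pEl_x, nEl_conj])
  obtain ⟨m, hm⟩ := range_of_comm hB eX_seven fixCnt_eX hmx
  have hmy : δ nEl * nEl⁻¹ * iota eY = iota eY * (δ nEl * nEl⁻¹) :=
    hN _ (pEl (app nX nY 1)) (by rw [← pEl_y, nEl_conj])
  obtain ⟨v, hv49, rfl⟩ := cent_P (q := m) (hinj (by rw [map_mul, map_mul, hm, hmx]))
    (hinj (by rw [map_mul, map_mul, hm, hmy]))
  have hv0 : v = 0 := by
    by_contra hne
    have h := allFrom_all fixed_gens_check hv49
    have hall6 : ((List.range 6).all fun b => Nat.beq (genVal b v) v) = true := by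
      rw [List.all_eq_true]
      intro b hb
      have hb := List.mem_range.1 hb
      rw [Nat.beq_eq]
      refine pEl_inj (app_lt _ _ _) hv49 ?_
      rw [← gen6_conj hb, mul_inv_eq_iff_eq_mul]
      obtain ⟨k, hk⟩ := mem_nodeStab.1 (gen6_mem hb)
      rw [repG_six] at hk
      refine hinj ?_
      rw [map_mul, map_mul, hm]
      refine (hN _ ((ql hW)⁻¹ * k * ql hW) ?_).symm
      rw [map_mul, map_mul, map_inv, hk, nEl]
      group
    rw [hall6] at h
    exact hne (Nat.eq_of_beq_eq_true h)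
  have hNfix : δ nEl = nEl := mul_inv_eq_one.1 (by rw [← hm, hv0, pEl_zero, map_one])
  have hout : nEl ∉ iota.range := by
    rintro ⟨w, hw⟩
    have e := nEl_conj 7
    rw [← hw, ← map_inv, ← map_mul, ← map_mul] at e
    obtain ⟨hs, hs0⟩ := swap_spec (show 7 < 49 by norm_num) (show (7 : Nat) ≠ 0 by norm_num)
    have hf := congrArg fixCnt (hinj e)
    rw [show w⁻¹ * pEl 7 * w = w⁻¹ * pEl 7 * w⁻¹⁻¹ by rw [inv_inv], fixCnt_conj,
      fixCnt_pEl (app_lt _ _ _) hs0, hs, inA_x, pEl_x, fixCnt_eX] at hf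
    simp at hf
  let M : Subgroup GTh := MonoidHom.eqLocus (δ : GTh ≃* GTh).toMonoidHom (MonoidHom.id GTh)
  have hM : M = ⊤ := eq_top_of_range_lt hB M (by rintro _ ⟨q, rfl⟩; exact hfix q)
    (fun e => hout (e ▸ hNfix))
  apply MulEquiv.ext
  intro g
  have : g ∈ M := hM ▸ trivial
  exact this

/-- Every automorphism is inner. -/
theorem aut_inner (hB : Big) (α : MulAut GTh) : α ∈ inner := by
  obtain ⟨g, hg⟩ := exists_preserve hB α
  set β : MulAut GTh := MulAut.conj g * α with hβ
  clear_value β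
  obtain ⟨m₀, h₀, hx₀⟩ := hg 7 (by norm_num)
  obtain ⟨m₁, h₁, hy₁⟩ := hg 1 (by norm_num)
  rw [pEl_x] at hx₀
  rw [pEl_y] at hy₁
  obtain ⟨g₂, hgx, hgy⟩ := exists_conj_on_P hB β h₀ h₁ hx₀ hy₁
  set γ : MulAut GTh := MulAut.conj g₂⁻¹ * β with hγ
  have hγx : γ (iota eX) = iota eX := by
    rw [hγ, MulAut.mul_apply, ← hgx, MulAut.conj_apply]; group
  have hγy : γ (iota eY) = iota eY := by
    rw [hγ, MulAut.mul_apply, ← hgy, MulAut.conj_apply]; group
  clear_value γ
  obtain ⟨i, hi, hγv⟩ := move_v hB γ hγx hγy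
  set δ₀ : MulAut GTh := MulAut.conj (iota (eY ^ i))⁻¹ * γ with hδ₀
  have cY : ∀ (n : Nat) v, (iota (eY ^ n))⁻¹ * iota (pEl v) = iota (pEl v) * (iota (eY ^ n))⁻¹ := by
    intro n v
    refine (show Commute (iota (eY ^ n)) (iota (pEl v)) from ?_).inv_left.eq
    rw [show eY ^ n = pEl 1 ^ n by rw [pEl_y]]
    show _ = _
    rw [map_pow]
    exact (Commute.pow_left (show iota (pEl 1) * iota (pEl v) = iota (pEl v) * iota (pEl 1) by
      rw [← map_mul, ← map_mul, pEl_comm]) n).eq
  have hδx : δ₀ (iota eX) = iota eX :=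
    conj_fixed γ _ _ hγx (by rw [← pEl_x]; exact cY i 7)
  have hδy : δ₀ (iota eY) = iota eY :=
    conj_fixed γ _ _ hγy (by rw [← pEl_y]; exact cY i 1)
  have hδv : δ₀ (iota eV) = iota eV := by
    rw [hδ₀, MulAut.mul_apply, hγv, MulAut.conj_apply, map_mul, map_mul, map_inv]
    group
  clear_value δ₀
  -- the second involution
  obtain ⟨hgI, hwX, huY, hw49, hu49, -⟩ := g_check
  have hcW : eG * pEl wCode * eG⁻¹ = eX := by rw [eG_conj, hwX, pEl_x]
  have hcU : eG * pEl uCode * eG⁻¹ = eY := by rw [eG_conj, huY, pEl_y]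
  have hV1 : cnj fp' = eG⁻¹ * eV * eG := (cnj_conj eG (fp vIx)).symm
  set ε : MulAut GTh := MulAut.conj (iota eG) * δ₀ * MulAut.conj (iota eG)⁻¹ with hε
  have hεP : ∀ v, ε (iota (eG * pEl v * eG⁻¹)) = iota (eG * pEl v * eG⁻¹) := by
    intro v
    rw [hε, MulAut.mul_apply, MulAut.mul_apply, MulAut.conj_apply (iota eG)⁻¹, inv_inv,
      show (iota eG)⁻¹ * iota (eG * pEl v * eG⁻¹) * iota eG = iota (pEl v) by
        rw [← map_inv, ← map_mul, ← map_mul]; congr 1; group,
      fix_pEl δ₀ hδx hδy, MulAut.conj_apply, ← map_inv, ← map_mul, ← map_mul]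
  clear_value ε
  obtain ⟨k, hk, hεv⟩ := move_v hB ε (by rw [← hcW]; exact hεP _) (by rw [← hcU]; exact hεP _)
  set j := (splitU.getD k []).getD 0 0 with hj
  set l := (splitU.getD k []).getD 1 0 with hl
  set δ : MulAut GTh := MulAut.conj (iota (eX ^ j))⁻¹ * δ₀ with hδ
  have cX : ∀ a : GTh, Commute (iota eX) a → (iota (eX ^ j))⁻¹ * a = a * (iota (eX ^ j))⁻¹ :=
    fun a h => by rw [map_pow]; exact (h.pow_left j).inv_left.eq
  have hcv' : pEl wCode * (eG⁻¹ * eV * eG) = eG⁻¹ * eV * eG * pEl wCode := by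
    have e : pEl wCode = eG⁻¹ * eX * eG := by rw [← hcW]; group
    rw [e]
    calc eG⁻¹ * eX * eG * (eG⁻¹ * eV * eG) = eG⁻¹ * (eX * eV) * eG := by group
      _ = eG⁻¹ * (eV * eX) * eG := by rw [eV_comm]
      _ = _ := by group
  have hv' : δ (iota (cnj fp')) = iota (cnj fp') := by
    have e : δ₀ (iota (cnj fp')) = (iota eG)⁻¹ * ε (iota eV) * iota eG := by
      have e1 : (iota eG)⁻¹ * iota eV * iota eG = iota (cnj fp') := by
        rw [hV1, map_mul iota, map_mul iota, map_inv iota]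
      rw [hε, MulAut.mul_apply, MulAut.mul_apply, MulAut.conj_apply (iota eG)⁻¹, inv_inv, e1,
        MulAut.conj_apply]
      group
    rw [hδ, MulAut.mul_apply, e, hεv, MulAut.conj_apply, inv_inv, ← map_inv, ← map_inv, ← map_mul,
      ← map_mul, ← map_mul, ← map_mul, hV1]
    congr 1
    have hu' : eG⁻¹ * eY ^ k = pEl uCode ^ k * eG⁻¹ := by
      rw [← hcU, conj_pow]; group
    calc (eX ^ j)⁻¹ * (eG⁻¹ * (eY ^ k * eV * (eY ^ k)⁻¹) * eG) * eX ^ j
        = (eX ^ j)⁻¹ * (eG⁻¹ * eY ^ k) * eV * (eG⁻¹ * eY ^ k)⁻¹ * eX ^ j := by group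
      _ = (eX ^ j)⁻¹ * (pEl uCode ^ k * eG⁻¹) * eV * (pEl uCode ^ k * eG⁻¹)⁻¹ * eX ^ j := by rw [hu']
      _ = pEl wCode ^ l * (eG⁻¹ * eV * eG) * (pEl wCode ^ l)⁻¹ := by rw [split_u hk, ← hj, ← hl]; group
      _ = eG⁻¹ * eV * eG := by
        rw [((show Commute (pEl wCode) (eG⁻¹ * eV * eG) from hcv').pow_left l).eq,
          mul_inv_cancel_right]
  clear_value δ
  have hone : δ = 1 := rigid hB δ
    (by rw [hδ]; exact conj_fixed δ₀ _ _ hδx (cX _ (Commute.refl _)))
    (by rw [hδ]; exact conj_fixed δ₀ _ _ hδy (cX _ (show iota eX * iota eY = iota eY * iota eX by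
      rw [← map_mul, ← map_mul, eX_comm])))
    (by rw [hδ]; exact conj_fixed δ₀ _ _ hδv (cX _ (show iota eX * iota eV = iota eV * iota eX by
      rw [← map_mul, ← map_mul, eV_comm])))
    hv'
  have hα : α = (MulAut.conj g)⁻¹ * ((MulAut.conj g₂⁻¹)⁻¹ *
      ((MulAut.conj (iota (eY ^ i))⁻¹)⁻¹ * ((MulAut.conj (iota (eX ^ j))⁻¹)⁻¹ * δ))) := by
    rw [hδ, hδ₀, hγ, hβ]; group
  rw [hα, hone]
  exact mul_mem (inv_mem ⟨g, rfl⟩) (mul_mem (inv_mem ⟨_, rfl⟩)
    (mul_mem (inv_mem ⟨_, rfl⟩) (mul_mem (inv_mem ⟨_, rfl⟩) (one_mem _))))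

end Cfsg.Agent.DCoset.Th.Aut
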