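import Cfsg.Agent.DCoset.Th.Aut.Basic

/-!
# Colours of pairs of points and generation of the points

The colour of two points is the order of the product of the attached conjugates of `a`.  An
element fixing two points fixes the image of one under the conjugate attached to the other.
-/

set_option autoImplicit false
set_option maxRecDepth 100000

namespace Cfsg.Agent.DCoset.Th.Aut

open Cfsg.Agent.DCoset Cfsg.Agent.DCoset.Th Cfsg.Agent.CosetCert

/-- The colour of a point with the origin. -/
noncomputable def ordAt (p : Nat) : Nat := Nat.mod (Nat.shiftRight ordT (Nat.mul 8 p)) 256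

/-- The tuple of a power of the product of two conjugates of `a`. -/
noncomputable def powT (v w : Nat) : Nat → Nat :=
  fun n => Nat.rec tab.base (fun _ t => force t fun t => tab.app (tab.app t v) w) n

/-- The check of a colour. -/
noncomputable def ordC (p : Nat) : Bool :=
  force (ptWS.get 0) fun v => force (ptWS.get p) fun w => force (ordAt p) fun o =>
    gate (Nat.beq (powT v w o) tab.base)
      (Bool.rec (motive := fun _ => Bool)
        (gate (Nat.beq o 2 || Nat.beq o 3 || Nat.beq o 4)
          (Bool.not (Nat.beq (powT v w (Nat.div o 2)) tab.base)))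
        (Nat.beq p 0) (Nat.beq o 1))

theorem ord_all : allFrom ordC 0 819 = true := by decide +kernel

theorem powT_spec {v w : Nat} (hv : tab.okWord v = true) (hw : tab.okWord w = true) :
    ∀ n, powT v w n = model.tup ((model.el v * model.el w) ^ n)
  | 0 => by rw [pow_zero]; exact model.one.symm
  | n + 1 => by
    show force (powT v w n) (fun t => tab.app (tab.app t v) w) = _
    rw [force_eq, powT_spec hv hw n, tup_app hv, tup_app hw, pow_succ, mul_assoc]

theorem ord_spec (p : Fin 819) :
    orderOf (cnj p0 * cnj p) = ordAt p.val ∧ (ordAt p.val = 1 → p = p0) := by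
  have h := allFrom_all ord_all p.2
  simp only [ordC, force_eq, gate_eq, Bool.and_eq_true] at h
  obtain ⟨hpow, hmin⟩ := h
  have hv := allFrom_all ptW_ok (show (0 : Nat) < 819 by norm_num)
  have hw := allFrom_all ptW_ok p.2
  have hE : ∀ n, powT (ptWS.get 0) (ptWS.get p.val) n = model.tup ((cnj p0 * cnj p) ^ n) :=
    powT_spec hv hw
  have h1 : (cnj p0 * cnj p) ^ ordAt p.val = 1 :=
    model.inj ((hE _).symm.trans ((Nat.eq_of_beq_eq_true hpow).trans model.one.symm))
  cases hb : Nat.beq (ordAt p.val) 1
  · rw [hb] at hmin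
    simp only [gate_eq, Bool.and_eq_true, Bool.or_eq_true, Nat.beq_eq] at hmin
    obtain ⟨ho, hne⟩ := hmin
    have hne' : (cnj p0 * cnj p) ^ (ordAt p.val / 2) ≠ 1 := fun e => by
      have e' : Nat.beq (powT (ptWS.get 0) (ptWS.get p.val) (ordAt p.val / 2)) tab.base = true := by
        rw [hE, e]; exact Nat.beq_eq ▸ model.one
      rw [show Nat.div (ordAt p.val) 2 = ordAt p.val / 2 from rfl, e'] at hne
      exact Bool.noConfusion hne
    refine ⟨?_, fun e => by omega⟩
    rcases ho with (ho | ho) | ho <;> rw [ho] at h1 hne' ⊢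
    · haveI : Fact (Nat.Prime 2) := ⟨by norm_num⟩
      exact orderOf_eq_prime h1 (by simpa using hne')
    · haveI : Fact (Nat.Prime 3) := ⟨by norm_num⟩
      exact orderOf_eq_prime h1 (by simpa using hne')
    · haveI : Fact (Nat.Prime 2) := ⟨by norm_num⟩
      exact orderOf_eq_prime_pow (p := 2) (n := 1) (by simpa using hne') (by simpa using h1)
  · rw [hb] at hmin
    have hp : p = p0 := Fin.ext (Nat.eq_of_beq_eq_true hmin)
    rw [Nat.eq_of_beq_eq_true hb] at h1 ⊢
    exact ⟨orderOf_eq_one_iff.2 (by simpa using h1), fun _ => hp⟩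

theorem img_of_conj (h : HGroup) (p : Fin 819) : cnj p = h * cnj (img h p) * h⁻¹ := by
  rw [← cnj_conj h p]; group

theorem orderOf_cnj_img (h : HGroup) (p r : Fin 819) :
    orderOf (cnj (img h p) * cnj (img h r)) = orderOf (cnj p * cnj r) := by
  rw [← cnj_conj h p, ← cnj_conj h r]
  have e : h⁻¹ * cnj p * h * (h⁻¹ * cnj r * h) = MulAut.conj h⁻¹ (cnj p * cnj r) := by
    simp [MulAut.conj_apply]; group
  rw [e, MulEquiv.orderOf_eq]

theorem cnj_inj : Function.Injective cnj := by
  intro p r h
  obtain ⟨q, hq⟩ := exists_img p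
  have e : orderOf (cnj p0 * cnj (img q⁻¹ r)) = orderOf (cnj p0 * cnj p0) := by
    rw [← orderOf_cnj_img q p0, ← orderOf_cnj_img q p0 p0, img_img_inv, hq, h]
  rw [(ord_spec _).1, (ord_spec _).1, show ordAt (p0 : Fin 819).val = 1 from by decide +kernel] at e
  have := (ord_spec _).2 e
  rw [← hq, ← this, img_img_inv]

/-- An element fixing a point commutes with the conjugate attached to it, and conversely. -/
theorem fix_iff_comm (q : HGroup) (p : Fin 819) : img q p = p ↔ q * cnj p = cnj p * q := by
  constructor
  · intro h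
    have e := cnj_conj q p
    rw [h] at e
    calc q * cnj p = q * (q⁻¹ * cnj p * q) := by rw [e]
      _ = cnj p * q := by group
  · intro h
    refine cnj_inj ?_
    rw [← cnj_conj q p, mul_assoc, ← h, inv_mul_cancel_left]

/-- The image of the image under an attached conjugate. -/
theorem img_cnj_img (q : HGroup) (m r : Fin 819) :
    img q (img (cnj m) r) = img (cnj (img q m)) (img q r) := by
  rw [← img_mul, ← img_mul, ← cnj_conj q m]
  congr 1
  group

theorem img_cnj_val (m r : Fin 819) :
    (img (cnj m) r).val = actW tab.act r.val (ptWS.get m.val) := by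
  rw [cnj]
  exact img_el (allFrom_all ptW_ok m.2) r

theorem fix_spread {q : HGroup} {m r : Fin 819} (hm : img q m = m) (hr : img q r = r) :
    img q (img (cnj m) r) = img (cnj m) r := by
  rw [img_cnj_img, hm, hr]

theorem eq_one_of_fix_all {q : HGroup} (h : ∀ p : Fin 819, img q p = p) : q = 1 :=
  rho_faithful q fun l _ => h (bpt l)

/-- A position list covers all points. -/
noncomputable def coverC (sq pos : Nat) : Bool :=
  allFrom (fun p => force (getP pos p) fun k => gate (Nat.blt k 819) (Nat.beq (getP sq k) p)) 0 819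

theorem cover_spec {sq pos : Nat} (h : coverC sq pos = true) (P : Nat → Prop)
    (hP : ∀ k, k < 819 → P (getP sq k)) : ∀ p < 819, P p := by
  intro p hp
  have h' := allFrom_all h hp
  simp only [force_eq, gate_eq, Bool.and_eq_true] at h'
  rw [← Nat.eq_of_beq_eq_true h'.2]
  exact hP _ (Nat.ble_eq.mp h'.1)

end Cfsg.Agent.DCoset.Th.Aut
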