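import Cfsg.Agent.ThMat.Orbit
import Cfsg.Agent.DCoset.Th.Aut.Data

/-!
# The words whose triviality gives the conjugates of `x` and `y` by the representative of node six
-/

set_option autoImplicit false

namespace Cfsg.Agent.DCoset.Th.Aut

/-- A letter of the subgroup as a letter of the degree 248 representation. -/
def to11 (g : Nat) : Nat := if g < 7 then g else g + 1

/-- The inverse word. -/
def inv11 (l : List Nat) : List Nat := l.reverse.map ThMat.invL

/-- The representative of node six. -/
def rep6W : List Nat := l1.map to11 ++ [7] ++ (l4.map to11 ++ [7]) ++ (l6.map to11 ++ [7])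

/-- A conjugate by the representative, times the inverse of its stated value. -/
def idW (z w : List Nat) : List Nat :=
  rep6W ++ z.map to11 ++ inv11 rep6W ++ inv11 (w.map to11)

end Cfsg.Agent.DCoset.Th.Aut
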