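import Cfsg.Agent.DCoset.Th.Aut.Rep6Run
import Cfsg.Agent.DCoset.Th.Aut.Rep6Words

/-! Kernel checks in degree 248 of a conjugate by the representative of node six. -/

set_option Elab.async false
set_option maxRecDepth 100000

namespace Cfsg.Agent.DCoset.Th.Aut

theorem rep6X_0 : relS (idW xS kXW) 0 = true := by decide +kernel

theorem rep6X_1 : relS (idW xS kXW) 31 = true := by decide +kernel

theorem rep6X_2 : relS (idW xS kXW) 62 = true := by decide +kernel

theorem rep6X_3 : relS (idW xS kXW) 93 = true := by decide +kernel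

theorem rep6X_4 : relS (idW xS kXW) 124 = true := by decide +kernel

theorem rep6X_5 : relS (idW xS kXW) 155 = true := by decide +kernel

theorem rep6X_6 : relS (idW xS kXW) 186 = true := by decide +kernel

theorem rep6X_7 : relS (idW xS kXW) 217 = true := by decide +kernel

theorem rep6X_check : ∀ c < 8, relS (idW xS kXW) (31 * c) = true :=
  relS_all rep6X_0 rep6X_1 rep6X_2 rep6X_3 rep6X_4 rep6X_5 rep6X_6 rep6X_7

end Cfsg.Agent.DCoset.Th.Aut
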