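import Cfsg.Agent.ThMat.Th
import Cfsg.Agent.DCoset.Th.Aut.Basic
import Cfsg.Agent.DCoset.Th.Aut.Rep6X
import Cfsg.Agent.DCoset.Th.Aut.Rep6Y

/-!
# The conjugates of `x` and `y` by the representative of node six

The identities hold in the representation of degree 248, which is faithful.
-/

set_option autoImplicit false
set_option maxRecDepth 100000
set_option maxHeartbeats 400000

namespace Cfsg.Agent.DCoset.Th.Aut

open Cfsg.Agent.DCoset Cfsg.Agent.DCoset.Th Cfsg.Agent.CosetCert
open Cfsg.Spor.Th (Gen)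
open Cfsg.Agent.ThMat (thRep uV wU)

theorem thRep_gen (g : Gen) :
    thRep (PresentedGroup.of g) = uV (ThMat.code (g, true)) :=
  PresentedGroup.toGroup.of ThMat.th_rels

theorem thRep_gU : thRep gU = uV 7 := thRep_gen Gen.u

theorem ql_of (g : Nat) (hg : g < 7) : ql [g] = PresentedGroup.of (⟨g, hg⟩ : Fin 7) := by
  interval_cases g <;> simp [ql, qL, letWord, qB] <;> rfl

theorem thRep_let {g : Nat} (hg : g < 9) : thRep (iota (ql [g])) = uV (to11 g) := by
  have hpos : ∀ g, g < 7 → thRep (iota (ql [g])) = uV g := by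
    intro g hg
    rw [ql_of g hg, show iota (PresentedGroup.of (⟨g, hg⟩ : Fin 7)) =
      PresentedGroup.of (genOf ⟨g, hg⟩) from (iota_of _).trans rfl, thRep_gen]
    interval_cases g <;> rfl
  by_cases h : g < 7
  · rw [hpos g h, to11, if_pos h]
  · have hmul : ql [g - 2] * ql [g] = 1 := by
      rw [← ql_append, ← ql_nil]
      interval_cases g <;> exact ql_eq (by decide +kernel)
    rw [eq_inv_of_mul_eq_one_right hmul, map_inv, map_inv, hpos _ (by omega), to11, if_neg h,
      ← ThMat.uV_invL (show g - 2 < 11 by omega)]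
    congr 1
    interval_cases g <;> rfl

theorem thRep_ql : ∀ l : List Nat, (∀ g ∈ l, g < 9) → thRep (iota (ql l)) = wU (l.map to11)
  | [], _ => by simp [ql_nil, wU]
  | g :: l, h => by
    rw [show g :: l = [g] ++ l from rfl, ql_append, map_mul, map_mul,
      thRep_let (h g List.mem_cons_self), thRep_ql l fun x hx => h x (List.mem_cons_of_mem _ hx),
      List.map_append, ThMat.wU_append]
    simp [wU]

theorem to11_lt : ∀ {g : Nat}, g < 9 → to11 g < 11 := fun {g} hg => by
  unfold to11; split <;> omega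

/-- The representative of node six. -/
noncomputable def rep6 : GTh := iota (ql l1) * gU * (iota (ql l4) * gU) * (iota (ql l6) * gU)

theorem words_lt : (l1 ++ l4 ++ l6 ++ xS ++ yS ++ kXW ++ kYW).all (fun g => Nat.blt g 9) = true := by
  decide +kernel

theorem lt_of_words {g : Nat} (h : g ∈ l1 ++ l4 ++ l6 ++ xS ++ yS ++ kXW ++ kYW) : g < 9 :=
  Nat.blt_eq.mp (List.all_eq_true.1 words_lt g h)

theorem thRep_rep6 : thRep rep6 = wU rep6W := by
  have h1 : thRep (iota (ql l1)) = wU (l1.map to11) :=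
    thRep_ql _ fun g hg => lt_of_words (by simp [hg])
  have h4 : thRep (iota (ql l4)) = wU (l4.map to11) :=
    thRep_ql _ fun g hg => lt_of_words (by simp [hg])
  have h6 : thRep (iota (ql l6)) = wU (l6.map to11) :=
    thRep_ql _ fun g hg => lt_of_words (by simp [hg])
  simp only [rep6, rep6W, map_mul, h1, h4, h6, thRep_gU, ThMat.wU_append]
  simp [wU]

theorem rep6_conj {z w : List Nat} (hz : ∀ g ∈ z, g < 9) (hw : ∀ g ∈ w, g < 9)
    (h : ∀ c < 8, relS (idW z w) (31 * c) = true) :
    rep6 * iota (ql z) * rep6⁻¹ = iota (ql w) := by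
  apply ThMat.thRep_injective
  have hlt : ∀ {l : List Nat}, (∀ g ∈ l, g < 9) → ∀ x ∈ l.map to11, x < 11 := by
    intro l hl x hx
    obtain ⟨g, hg, rfl⟩ := List.mem_map.1 hx
    exact to11_lt (hl g hg)
  have hr : ∀ x ∈ rep6W, x < 11 := by decide +kernel
  have hinv : ∀ {l : List Nat}, (∀ x ∈ l, x < 11) → ∀ x ∈ inv11 l, x < 11 := by
    intro l hl x hx
    obtain ⟨g, hg, rfl⟩ := List.mem_map.1 hx
    exact ThMat.invL_lt (hl g (List.mem_reverse.1 hg))
  have hall : ∀ x ∈ idW z w, x < 11 := by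
    intro x hx
    simp only [idW, List.mem_append] at hx
    rcases hx with ((hx | hx) | hx) | hx
    exacts [hr x hx, hlt hz x hx, hinv hr x hx, hinv (hlt hw) x hx]
  have e : wU (idW z w) = 1 := by
    apply Units.ext
    rw [ThMat.coe_wU hall, relS_spec h, Units.val_one]
  simp only [idW, ThMat.wU_append, inv11, ThMat.wU_inv hr, ThMat.wU_inv (hlt hw),
    ← thRep_ql z hz, ← thRep_ql w hw, ← thRep_rep6] at e
  simp only [map_mul, map_inv] at e ⊢
  exact mul_inv_eq_one.1 e

theorem rep6_x : rep6 * iota eX * rep6⁻¹ = iota (ql kXW) :=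
  rep6_conj (fun _ hg => lt_of_words (by simp [hg])) (fun _ hg => lt_of_words (by simp [hg]))
    rep6X_check

theorem rep6_y : rep6 * iota eY * rep6⁻¹ = iota (ql kYW) :=
  rep6_conj (fun _ hg => lt_of_words (by simp [hg])) (fun _ hg => lt_of_words (by simp [hg]))
    rep6Y_check

/-- The code of the image of `x`. -/
def nX : Nat := nImg.getD 0 0

/-- The code of the image of `y`. -/
def nY : Nat := nImg.getD 1 0

theorem kXW_eq : ql kXW = ql hW * pEl nX * (ql hW)⁻¹ := by
  rw [eq_mul_inv_iff_mul_eq, ← ql_pW, ← ql_append, ← ql_append]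
  exact ql_eq (by decide +kernel)

theorem kYW_eq : ql kYW = ql hW * pEl nY * (ql hW)⁻¹ := by
  rw [eq_mul_inv_iff_mul_eq, ← ql_pW, ← ql_append, ← ql_append]
  exact ql_eq (by decide +kernel)

/-- An element normalising `P` outside the subgroup: conjugation by its inverse. -/
noncomputable def nEl : GTh := rep6⁻¹ * iota (ql hW)

theorem nEl_conj (v : Nat) :
    nEl⁻¹ * iota (pEl v) * nEl = iota (pEl (app nX nY v)) := by
  have h := conj_pEl iota nEl⁻¹ (m₀ := nX) (m₁ := nY) ?_ ?_ v
  · rwa [inv_inv] at h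
  · rw [nEl, inv_inv, mul_inv_rev, inv_inv]
    have e := rep6_x
    rw [kXW_eq, map_mul, map_mul, map_inv] at e
    calc (iota (ql hW))⁻¹ * rep6 * iota eX * (rep6⁻¹ * iota (ql hW))
        = (iota (ql hW))⁻¹ * (rep6 * iota eX * rep6⁻¹) * iota (ql hW) := by group
      _ = iota (pEl nX) := by rw [e]; group
  · rw [nEl, inv_inv, mul_inv_rev, inv_inv]
    have e := rep6_y
    rw [kYW_eq, map_mul, map_mul, map_inv] at e
    calc (iota (ql hW))⁻¹ * rep6 * iota eY * (rep6⁻¹ * iota (ql hW))
        = (iota (ql hW))⁻¹ * (rep6 * iota eY * rep6⁻¹) * iota (ql hW) := by group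
      _ = iota (pEl nY) := by rw [e]; group

theorem rep6_pEl (v : Nat) :
    rep6 * iota (pEl v) * rep6⁻¹ = iota (ql hW * pEl (app nX nY v) * (ql hW)⁻¹) := by
  have h := nEl_conj v
  rw [nEl, mul_inv_rev, inv_inv] at h
  rw [map_mul, map_mul, map_inv, ← h]
  group

end Cfsg.Agent.DCoset.Th.Aut
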