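import Cfsg.Agent.ThMat.Maps
import Cfsg.Agent.ThMat.Good
import Cfsg.Agent.ThMat.Unit

/-!
# Identity checks in degree 248, 31 rows at a time

A longer word needs narrower blocks to keep the memory of the kernel small.
-/

set_option autoImplicit false
set_option maxRecDepth 100000
set_option maxHeartbeats 200000

namespace Cfsg.Agent.DCoset.Th.Aut

open Cfsg.Agent.ThMat Cfsg.Agent.CosetCert

/-- The product over a word fixes the rows `lo, …, lo + 30` of the identity. -/
noncomputable def relS (w : List Nat) (lo : Nat) : Bool :=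
  force (repM 31 3) fun cm => force (repM 31 mask248) fun rd =>
    force (Nat.shiftLeft (diagM 31) (Nat.mul 24 lo)) fun J => Nat.beq (runW mth cm rd w J) J

attribute [local irreducible] pk maskF pkR colMask colR mth mask248 runW repM diagM

theorem relS_spec {w : List Nat} (h : ∀ c < 8, relS w (31 * c) = true) : (w.map mV).prod = 1 := by
  show (w.map (matG mth)).prod = 1
  ext a b
  have hc : (a : Nat) / 31 < 8 := by have := a.2; omega
  have h1 := h _ hc
  obtain ⟨B, hB, e, eB⟩ := runW_spec good_mth 31 w
    (fun i j => if j = i + 31 * ((a : Nat) / 31) then 1 else 0) (fun i j => by split <;> norm_num)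
  rw [relS, force_eq, force_eq, force_eq, rep_col, rep_mask 31 mask_eq, diag_eq 31 _ (by omega), e] at h1
  have he := pkR_inj 248 31 B _ (fun i j => (hB i j).trans (by norm_num))
    (fun i j => by split <;> norm_num) (Nat.eq_of_beq_eq_true h1)
  have ha : (a : Nat) % 31 + 31 * ((a : Nat) / 31) = a := Nat.mod_add_div _ _
  have h2 := eB ((a : Nat) % 31) b
  rw [he _ (Nat.mod_lt _ (by norm_num)) b b.2, ha, Finset.sum_eq_single a] at h2
  · rw [if_pos rfl, Nat.cast_one, one_mul] at h2
    rw [← h2, Matrix.one_apply]
    by_cases hab : a = b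
    · simp [hab]
    · rw [if_neg hab, if_neg fun e' => hab (Fin.ext e'.symm), Nat.cast_zero]
  · intro l _ hl
    rw [if_neg fun e' => hl (Fin.ext e'), Nat.cast_zero, zero_mul]
  · intro hx; exact absurd (Finset.mem_univ a) hx

theorem relS_all {w : List Nat} (h0 : relS w 0 = true) (h1 : relS w 31 = true)
    (h2 : relS w 62 = true) (h3 : relS w 93 = true) (h4 : relS w 124 = true) (h5 : relS w 155 = true)
    (h6 : relS w 186 = true) (h7 : relS w 217 = true) : ∀ c < 8, relS w (31 * c) = true
  | 0, _ => h0
  | 1, _ => h1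
  | 2, _ => h2
  | 3, _ => h3
  | 4, _ => h4
  | 5, _ => h5
  | 6, _ => h6
  | 7, _ => h7
  | n + 8, h => absurd h (by omega)

end Cfsg.Agent.DCoset.Th.Aut
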