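import Cfsg.Agent.DCoset.Th.Aut.Node

/-!
# Every automorphism preserving `P` acts on it as an element of its normaliser

An element normalising `P` maps the codes of 21 fixed points into one class; the linear maps
respecting this for the conjugates of the seven listed elements are the 144 listed products.
-/

set_option autoImplicit false
set_option maxRecDepth 100000

namespace Cfsg.Agent.DCoset.Th.Aut

open Cfsg.Agent.DCoset Cfsg.Agent.DCoset.Th Cfsg.Agent.CosetCert

/-- The images of `x` and `y` under the seven elements. -/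
def genPair (k : Nat) : Nat × Nat :=
  if k < 6 then ((sig6.getD k []).getD 0 0, (sig6.getD k []).getD 1 0) else (nX, nY)

/-- The action of the seven elements on the codes. -/
noncomputable def genApp (k v : Nat) : Nat := app (genPair k).1 (genPair k).2 v

/-- The seven elements. -/
noncomputable def genEl (k : Nat) : GTh :=
  if k < 6 then iota (ql (gens6.getD k [])) else nEl⁻¹

theorem genEl_conj (k v : Nat) :
    genEl k * iota (pEl v) * (genEl k)⁻¹ = iota (pEl (genApp k v)) := by
  unfold genEl genApp genPair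
  split_ifs with h
  · rw [← map_inv, ← map_mul, ← map_mul, gen6_conj h]
    rfl
  · rw [inv_inv, nEl_conj]

/-- The action of a word on the codes. -/
noncomputable def wordApp (w : List Nat) (v : Nat) : Nat :=
  List.rec (motive := fun _ => Nat) v (fun k _ r => genApp k r) w

/-- The element of a word. -/
noncomputable def wordEl' (w : List Nat) : GTh := (w.map genEl).prod

theorem wordEl_conj : ∀ (w : List Nat) (v : Nat),
    wordEl' w * iota (pEl v) * (wordEl' w)⁻¹ = iota (pEl (wordApp w v))
  | [], v => by simp [wordEl', wordApp]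
  | k :: w, v => by
    show genEl k * wordEl' w * iota (pEl v) * (genEl k * wordEl' w)⁻¹ =
      iota (pEl (genApp k (wordApp w v)))
    rw [← genEl_conj, ← wordEl_conj w v]
    group

/-- A normalising element maps all codes of 21 fixed points to one class. -/
theorem class_const (hB : Big) (g : GTh) {a b a' b' : Nat} (ha : a < 49) (hb : b < 49)
    (ha' : a' < 49) (hb' : b' < 49) (hA : inA a = true) (hA2 : inA b = true)
    (ea : g * iota (pEl a) * g⁻¹ = iota (pEl a')) (eb : g * iota (pEl b) * g⁻¹ = iota (pEl b')) :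
    inA a' = inA b' := by
  obtain ⟨-, -, -, hinj⟩ := exact_of_big hB
  have ne : ∀ {a a' : Nat}, a < 49 → inA a = true → g * iota (pEl a) * g⁻¹ = iota (pEl a') →
      a ≠ 0 ∧ a' ≠ 0 := fun {a a'} hl h e => by
    have h0 : a ≠ 0 := fun h0 => by rw [h0, inA_zero] at h; exact Bool.noConfusion h
    refine ⟨h0, fun h1 => h0 (pEl_eq_one hl (hinj ?_))⟩
    rw [h1, pEl_zero, map_one, mul_inv_eq_one] at e
    rw [map_one]
    exact mul_eq_left.1 e
  have key : ∀ {a a' b b' : Nat}, a < 49 → a' < 49 → b < 49 → b' < 49 → inA a = true → inA b = true →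
      inA a' = true → g * iota (pEl a) * g⁻¹ = iota (pEl a') →
      g * iota (pEl b) * g⁻¹ = iota (pEl b') → inA b' = true := by
    intro a a' b b' la la' lb lb' hA hA2 hA' ea eb
    obtain ⟨n0, n0'⟩ := ne la hA ea
    obtain ⟨m0, m0'⟩ := ne lb hA2 eb
    have hg : g ∈ iota.range := range_of_conj hB g (pEl_seven a') ((inA_iff la' n0').1 hA')
      ((inA_iff la n0).1 hA) (by rw [← ea]; group)
    obtain ⟨h, rfl⟩ := hg
    rw [← map_inv, ← map_mul, ← map_mul] at eb
    rw [inA_iff lb' m0', ← hinj eb, fixCnt_conj]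
    exact (inA_iff lb m0).1 hA2
  cases h1 : inA a' <;> cases h2 : inA b'
  · rfl
  · exact absurd (key hb hb' ha ha' hA2 hA h2 eb ea) (by simp [h1])
  · exact absurd (key ha ha' hb hb' hA hA2 h1 ea eb) (by simp [h2])
  · rfl

/-- The map of two codes is injective. -/
noncomputable def regC (m₀ m₁ : Nat) : Bool :=
  allFrom (fun v => Bool.not (Nat.beq (app m₀ m₁ v) 0)) 1 48

/-- The map of two codes carries the action of an element into maps respecting the classes. -/
noncomputable def condC (m₀ m₁ : Nat) (k : Nat) : Bool :=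
  allFrom (fun v => Bool.rec (motive := fun _ => Bool) true (inA (app m₀ m₁ (genApp k v)))
      (inA (app m₀ m₁ v))) 0 49 ||
    allFrom (fun v => Bool.rec (motive := fun _ => Bool) true
      (Bool.not (inA (app m₀ m₁ (genApp k v)))) (inA (app m₀ m₁ v))) 0 49

/-- A map meeting the conditions is the action of a listed word. -/
noncomputable def autC (m₀ m₁ : Nat) : Bool :=
  Bool.rec (motive := fun _ => Bool) true
    (autWords.any fun w => Nat.beq (wordApp w 7) m₀ && Nat.beq (wordApp w 1) m₁)
    (gate (regC m₀ m₁) (gate (condC m₀ m₁ 0) (gate (condC m₀ m₁ 1) (gate (condC m₀ m₁ 2)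
      (gate (condC m₀ m₁ 3) (gate (condC m₀ m₁ 4) (gate (condC m₀ m₁ 5) (condC m₀ m₁ 6))))))))

theorem aut_check : allFrom (fun m₀ => allFrom (fun m₁ => autC m₀ m₁) 0 49) 0 49 = true := by
  decide +kernel

/-- An automorphism given on `x` and `y` by codes is given on all of `P` by them. -/
theorem map_pEl (f : GTh →* GTh) {m₀ m₁ : Nat} (hx : f (iota eX) = iota (pEl m₀))
    (hy : f (iota eY) = iota (pEl m₁)) (v : Nat) :
    f (iota (pEl v)) = iota (pEl (app m₀ m₁ v)) := by
  rw [← app_spec, map_mul iota, map_pow iota, map_pow iota, ← hx, ← hy,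
    show pEl v = eX ^ (v / 7) * eY ^ (v % 7) from rfl, map_mul iota, map_pow iota, map_pow iota,
    map_mul f, map_pow f, map_pow f]

/-- An automorphism preserving `P` agrees on `x` and `y` with conjugation by an element. -/
theorem exists_conj_on_P (hB : Big) (β : GTh ≃* GTh) {m₀ m₁ : Nat} (h₀ : m₀ < 49) (h₁ : m₁ < 49)
    (hx : β (iota eX) = iota (pEl m₀)) (hy : β (iota eY) = iota (pEl m₁)) :
    ∃ g : GTh, g * iota eX * g⁻¹ = β (iota eX) ∧ g * iota eY * g⁻¹ = β (iota eY) := by
  obtain ⟨-, -, -, hinj⟩ := exact_of_big hB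
  have hβ : ∀ v, β (iota (pEl v)) = iota (pEl (app m₀ m₁ v)) :=
    map_pEl β.toMonoidHom hx hy
  have hinjM : ∀ v, v < 49 → app m₀ m₁ v = 0 → v = 0 := by
    intro v hv h0
    refine pEl_eq_one hv (hinj (β.injective ?_))
    rw [hβ, h0, pEl_zero, map_one, map_one]
  have hreg : regC m₀ m₁ = true := by
    rw [regC, allFrom_iff]
    intro v h1 h2
    cases h : Nat.beq (app m₀ m₁ v) 0
    · rfl
    · have := hinjM v (by omega) (Nat.eq_of_beq_eq_true h)
      omega
  have hcond : ∀ k, condC m₀ m₁ k = true := by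
    intro k
    have hconj : ∀ v, β (genEl k) * iota (pEl (app m₀ m₁ v)) * (β (genEl k))⁻¹ =
        iota (pEl (app m₀ m₁ (genApp k v))) := fun v => by
      rw [← hβ, ← hβ, ← genEl_conj, map_mul, map_mul, map_inv]
    by_cases hex : ∃ v, v < 49 ∧ inA (app m₀ m₁ v) = true ∧ inA (app m₀ m₁ (genApp k v)) = true
    · obtain ⟨v, -, hA, hA'⟩ := hex
      rw [condC, Bool.or_eq_true]
      refine Or.inl ((allFrom_iff _ _ _).2 fun u _ hu => ?_)
      cases hu' : inA (app m₀ m₁ u)
      · rfl
      · show inA (app m₀ m₁ (genApp k u)) = true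
        rw [← class_const hB (β (genEl k)) (app_lt _ _ _) (app_lt _ _ _) (app_lt _ _ _)
          (app_lt _ _ _) hA hu' (hconj v) (hconj u), hA']
    · rw [condC, Bool.or_eq_true]
      refine Or.inr ((allFrom_iff _ _ _).2 fun u _ hu => ?_)
      cases hu' : inA (app m₀ m₁ u)
      · rfl
      · show Bool.not (inA (app m₀ m₁ (genApp k u))) = true
        cases h : inA (app m₀ m₁ (genApp k u))
        · rfl
        · exact absurd ⟨u, by omega, hu', h⟩ hex
  have h := allFrom_all (allFrom_all aut_check h₀) h₁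
  simp only [autC, gate_eq, hreg, hcond, Bool.and_self] at h
  obtain ⟨w, -, hw⟩ := List.any_eq_true.1 h
  simp only [Bool.and_eq_true] at hw
  refine ⟨wordEl' w, ?_, ?_⟩
  · rw [hx, ← pEl_x, wordEl_conj, Nat.eq_of_beq_eq_true hw.1]
  · rw [hy, ← pEl_y, wordEl_conj, Nat.eq_of_beq_eq_true hw.2]

end Cfsg.Agent.DCoset.Th.Aut
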